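import Mathlib

/-!
An involution outside a subgroup of index two from the centralisers of the three involutions of a four-group:
each centraliser determines two outer points and two of the three pairs have a common point.
-/

set_option autoImplicit false

namespace CfsgLib.ClassK.FiOuter

open scoped commutatorElement
open Subgroup

variable {X : Type*} [Group X]

/-- The centraliser of `x` inside `G₀`. -/
abbrev Cg (G₀ : Subgroup X) (x : X) : Subgroup X := G₀ ⊓ centralizer ({x} : Set X)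

theorem mem_Cg {G₀ : Subgroup X} {x g : X} : g ∈ Cg G₀ x ↔ g ∈ G₀ ∧ g * x = x * g := by
  rw [mem_inf, mem_centralizer_singleton_iff]

/-- A perfect subgroup lies in every subgroup of index two. -/
theorem perfect_le {P C K : Subgroup X} (hPC : P ≤ C) (hP : ⁅P, P⁆ = P)
    (hi : (K.subgroupOf C).index = 2) : P ≤ K := by
  rw [← hP, Subgroup.commutator_le]
  intro g hg h hh
  have H : (⁅(⟨g, hPC hg⟩ : C), ⟨h, hPC hh⟩⁆) ∈ K.subgroupOf C := by
    rw [commutatorElement_def]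
    simp only [mul_mem_iff_of_index_two hi, inv_mem_iff]
    tauto
  exact H

/-- What is used about an involution with an almost simple centraliser. -/
structure KData (G₀ : Subgroup X) (x : X) (K : Subgroup X) : Prop where
  le : K ≤ Cg G₀ x
  perfect : ⁅K, K⁆ = K
  index : (K.subgroupOf (Cg G₀ x)).index = 2
  mem : x ∈ K
  outer : ∃ h, h ∉ G₀ ∧ h * x = x * h ∧ ∀ k ∈ K, h * k = k * h
  uniq : ∀ c ∈ Cg G₀ x, (∀ k ∈ K, c * k = k * c) → c = 1 ∨ c = x

/-- `h` is one of the two outer points of `x`. -/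
def Pt (G₀ : Subgroup X) (K : Subgroup X) (x h : X) : Prop :=
  h ∉ G₀ ∧ h * x = x * h ∧ ∀ k ∈ K, h * k = k * h

variable {G₀ : Subgroup X} {x y h h' g : X} {K K' : Subgroup X}

theorem Pt.mul_self (hd : Pt G₀ K x h) (D : KData G₀ x K) (hi : G₀.index = 2) :
    h * h = 1 ∨ h * h = x := by
  refine D.uniq _ (mem_Cg.2 ⟨(mul_mem_iff_of_index_two hi).2 ⟨fun a => (hd.1 a).elim, fun a => (hd.1 a).elim⟩,
    Commute.mul_left hd.2.1 hd.2.1⟩) fun k hk => Commute.mul_left (hd.2.2 k hk) (hd.2.2 k hk)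

theorem Pt.eq_or (hd : Pt G₀ K x h) (hd' : Pt G₀ K x h') (D : KData G₀ x K) (hi : G₀.index = 2) :
    h' = h ∨ h' = h * x := by
  have h1 : h⁻¹ * h' ∈ G₀ := (mul_mem_iff_of_index_two hi).2
    ⟨fun a => (hd.1 ((inv_mem_iff).1 a)).elim, fun a => (hd'.1 a).elim⟩
  rcases D.uniq (h⁻¹ * h') (mem_Cg.2 ⟨h1, Commute.mul_left (Commute.inv_left hd.2.1) hd'.2.1⟩)
    (fun k hk => Commute.mul_left (Commute.inv_left (hd.2.2 k hk)) (hd'.2.2 k hk)) with e | e
  · exact Or.inl (inv_mul_eq_one.1 e).symm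
  · exact Or.inr (inv_mul_eq_iff_eq_mul.1 e)

theorem Pt.mul_x (hd : Pt G₀ K x h) (D : KData G₀ x K) : Pt G₀ K x (h * x) := by
  have hx : x ∈ G₀ := (mem_Cg.1 (D.le D.mem)).1
  refine ⟨fun a => hd.1 ?_, Commute.mul_left hd.2.1 rfl, fun k hk =>
    Commute.mul_left (hd.2.2 k hk) ((mem_Cg.1 (D.le hk)).2).symm⟩
  simpa using mul_mem a (inv_mem hx)

/-- Conjugation carries outer points to outer points. -/
theorem Pt.conj (hd : Pt G₀ K x h) (D : KData G₀ x K) (D' : KData G₀ y K') (hn : G₀.Normal)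
    (he : g * x * g⁻¹ = y) : Pt G₀ K' y (g * h * g⁻¹) := by
  have hy : y = (MulAut.conj g) x := he.symm
  have hle : K'.map (MulAut.conj g⁻¹).toMonoidHom ≤ K := by
    refine perfect_le (C := Cg G₀ x) ?_ (by rw [← Subgroup.map_commutator, D'.perfect]) D.index
    rintro _ ⟨k, hk, rfl⟩
    obtain ⟨k1, k2⟩ := mem_Cg.1 (D'.le hk)
    simp only [MulEquiv.toMonoidHom_eq_coe, MonoidHom.coe_coe, MulAut.conj_apply, inv_inv]
    refine mem_Cg.2 ⟨by simpa using hn.conj_mem k k1 g⁻¹, ?_⟩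
    rw [← he] at k2
    calc g⁻¹ * k * g * x = g⁻¹ * (k * (g * x * g⁻¹)) * g := by group
      _ = g⁻¹ * (g * x * g⁻¹ * k) * g := by rw [k2]
      _ = x * (g⁻¹ * k * g) := by group
  refine ⟨fun a => hd.1 ?_, ?_, fun k hk => ?_⟩
  · simpa [mul_assoc] using hn.conj_mem _ a g⁻¹
  · rw [← he]; exact ((Commute.conj_iff g).2 hd.2.1).eq
  · have h1 : g⁻¹ * k * g ∈ K := hle ⟨k, hk, by simp⟩
    have h2 : Commute (g * h * g⁻¹) (g * (g⁻¹ * k * g) * g⁻¹) := (Commute.conj_iff g).2 (hd.2.2 _ h1)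
    rwa [show g * (g⁻¹ * k * g) * g⁻¹ = k by group] at h2

end CfsgLib.ClassK.FiOuter
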