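import Cfsg.Agent.Lib.ClassK.FiOuter.Basic

/-!
The common point of the pairs of two involutions of the four-group is an outer involution centralising `z`,
and the two are conjugate in its centraliser.
-/

set_option autoImplicit false

namespace CfsgLib.ClassK.FiOuter

open scoped commutatorElement
open Subgroup

variable {X : Type*} [Group X]

/-- The centraliser of the four-group inside `G₀`. -/
abbrev CL (G₀ : Subgroup X) (a b : X) : Subgroup X := Cg G₀ a ⊓ Cg G₀ b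

/-- The configuration. -/
structure OData (G₀ : Subgroup X) (z a b : X) (Q Ka Kb Kab : Subgroup X) : Prop where
  idx : G₀.index = 2
  z_mem : z ∈ G₀
  a_mem : a ∈ G₀
  b_mem : b ∈ G₀
  a_sq : a * a = 1
  b_sq : b * b = 1
  z_sq : z * z = 1
  a_ne : a ≠ 1
  b_ne : b ≠ 1
  ab_ne : a ≠ b
  comm : a * b = b * a
  za : z * a = a * z
  zb : z * b = b * z
  z_ne : z ≠ 1 ∧ z ≠ a ∧ z ≠ b ∧ z ≠ a * b
  Q_le : ∀ q ∈ Q, q ∈ G₀ ∧ q * z = z * q
  act_a : ∀ q ∈ Q, q * a * q⁻¹ = a ∨ q * a * q⁻¹ = a * z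
  act_b : ∀ q ∈ Q, q * b * q⁻¹ = b ∨ q * b * q⁻¹ = b * z
  ex_a : ∃ q ∈ Q, q * a * q⁻¹ = a ∧ q * b * q⁻¹ = b * z
  ex_b : ∃ q ∈ Q, q * b * q⁻¹ = b ∧ q * a * q⁻¹ = a * z
  noQ : ∀ g, g ∉ G₀ → g * z = z * g → ¬ ∀ q ∈ Q, g * q = q * g
  perfect : ⁅CL G₀ a b, CL G₀ a b⁆ = CL G₀ a b
  cent : ∀ c ∈ G₀, (∀ l ∈ CL G₀ a b, c * l = l * c) → c = 1 ∨ c = a ∨ c = b ∨ c = a * b
  da : KData G₀ a Ka
  db : KData G₀ b Kb
  dab : KData G₀ (a * b) Kab
  conj : ∃ g ∈ G₀, g * a * g⁻¹ = b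
  swap : ∃ s ∈ G₀, s * z = z * s ∧ s * a * s⁻¹ = a ∧ s * b * s⁻¹ = a * b

/-- The chosen outer point: it belongs to the pairs of `a` and of `b`, not to that of `a * b`. -/
def Good (G₀ : Subgroup X) (z a b : X) (Ka Kb Kab : Subgroup X) (d : X) : Prop :=
  Pt G₀ Ka a d ∧ Pt G₀ Kb b d ∧ ¬ Pt G₀ Kab (a * b) d ∧ d * d = 1 ∧ d * z = z * d

namespace OData

variable {G₀ : Subgroup X} {z a b : X} {Q Ka Kb Kab : Subgroup X}

theorem L_le {x : X} {K : Subgroup X} (O : OData G₀ z a b Q Ka Kb Kab) (D : KData G₀ x K)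
    (hx : ∀ l : X, l * a = a * l → l * b = b * l → l * x = x * l) : CL G₀ a b ≤ K := by
  refine perfect_le (fun l hl => ?_) O.perfect D.index
  obtain ⟨h1, h2⟩ := hl
  exact mem_Cg.2 ⟨(mem_Cg.1 h1).1, hx l (mem_Cg.1 h1).2 (mem_Cg.1 h2).2⟩

theorem L_le_a (O : OData G₀ z a b Q Ka Kb Kab) : CL G₀ a b ≤ Ka := O.L_le O.da fun _ h _ => h
theorem L_le_b (O : OData G₀ z a b Q Ka Kb Kab) : CL G₀ a b ≤ Kb := O.L_le O.db fun _ _ h => h

theorem mem_L (O : OData G₀ z a b Q Ka Kb Kab) {l : X} (h : l ∈ G₀) (ha : l * a = a * l)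
    (hb : l * b = b * l) : l ∈ CL G₀ a b := ⟨mem_Cg.2 ⟨h, ha⟩, mem_Cg.2 ⟨h, hb⟩⟩

theorem z_L (O : OData G₀ z a b Q Ka Kb Kab) : z ∈ CL G₀ a b := O.mem_L O.z_mem O.za O.zb
theorem a_L (O : OData G₀ z a b Q Ka Kb Kab) : a ∈ CL G₀ a b := O.mem_L O.a_mem rfl O.comm
theorem b_L (O : OData G₀ z a b Q Ka Kb Kab) : b ∈ CL G₀ a b := O.mem_L O.b_mem O.comm.symm rfl

/-- A point of the pair of `a` commutes with `z` and `b`. -/
theorem pt_comm (O : OData G₀ z a b Q Ka Kb Kab) {h : X} (hp : Pt G₀ Ka a h) :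
    h * z = z * h ∧ h * b = b * h := ⟨hp.2.2 z (O.L_le_a O.z_L), hp.2.2 b (O.L_le_a O.b_L)⟩

/-- The pairs of `a` and `b` have a common point, an involution. -/
theorem exists_meet (O : OData G₀ z a b Q Ka Kb Kab) :
    ∃ d, Pt G₀ Ka a d ∧ Pt G₀ Kb b d ∧ d * d = 1 := by
  obtain ⟨h, hp⟩ : ∃ h, Pt G₀ Ka a h := O.da.outer
  obtain ⟨h', hp'⟩ : ∃ h, Pt G₀ Kb b h := O.db.outer
  have h1 : h⁻¹ * h' ∈ G₀ := (mul_mem_iff_of_index_two O.idx).2
    ⟨fun e => (hp.1 ((inv_mem_iff).1 e)).elim, fun e => (hp'.1 e).elim⟩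
  obtain ⟨-, hb⟩ := O.pt_comm hp
  have key : ∀ d, Pt G₀ Ka a d → Pt G₀ Kb b d → d * d = 1 := fun d d1 d2 => by
    rcases d1.mul_self O.da O.idx with e | e
    · exact e
    rcases d2.mul_self O.db O.idx with e' | e'
    · exact e'
    exact absurd (e.symm.trans e') O.ab_ne
  have bb : h * b * b = h := by rw [mul_assoc, O.b_sq, mul_one]
  rcases O.cent _ h1 (fun l hl => Commute.mul_left (Commute.inv_left (hp.2.2 l (O.L_le_a hl)))
    (hp'.2.2 l (O.L_le_b hl))) with e | e | e | e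
  · have e' := (inv_mul_eq_one.1 e).symm
    exact ⟨h, hp, e' ▸ hp', key _ hp (e' ▸ hp')⟩
  · have e' := inv_mul_eq_iff_eq_mul.1 e
    exact ⟨h * a, hp.mul_x O.da, e' ▸ hp', key _ (hp.mul_x O.da) (e' ▸ hp')⟩
  · have e' := inv_mul_eq_iff_eq_mul.1 e
    have h2 : Pt G₀ Kb b h := by
      have := hp'.mul_x O.db
      rwa [e', bb] at this
    exact ⟨h, hp, h2, key _ hp h2⟩
  · have e' := inv_mul_eq_iff_eq_mul.1 e
    have h2 : Pt G₀ Kb b (h * a) := by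
      have := hp'.mul_x O.db
      rwa [e', mul_assoc h, mul_assoc a, O.b_sq, mul_one] at this
    exact ⟨h * a, hp.mul_x O.da, h2, key _ (hp.mul_x O.da) h2⟩

/-- An element of `G₀` fixing `x` moves a point of `x` to a point of `x`. -/
theorem conj_pt {x q d : X} {K : Subgroup X} (O : OData G₀ z a b Q Ka Kb Kab) (D : KData G₀ x K)
    (hp : Pt G₀ K x d) (hq : q ∈ G₀) (he : q * x * q⁻¹ = x) :
    q * d * q⁻¹ = d ∨ q * d * q⁻¹ = d * x :=
  hp.eq_or (hp.conj D D (normal_of_index_eq_two O.idx) he) D O.idx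

/-- No element outside `G₀` commuting with `z` is fixed by all elements fixing `a` and all fixing `b`. -/
theorem not_fixed (O : OData G₀ z a b Q Ka Kb Kab) {d : X} (hp : Pt G₀ Ka a d)
    (ha : ∀ q ∈ Q, q * a * q⁻¹ = a → q * b * q⁻¹ = b * z → q * d * q⁻¹ = d)
    (hb : ∀ q ∈ Q, q * b * q⁻¹ = b → q * a * q⁻¹ = a * z → q * d * q⁻¹ = d) : False := by
  refine O.noQ d hp.1 (O.pt_comm hp).1 fun q hq => ?_
  have fixE : ∀ r ∈ Q, r * a * r⁻¹ = a → r * b * r⁻¹ = b → r * d * r⁻¹ = d := fun r hr e1 e2 =>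
    mul_inv_eq_iff_eq_mul.2 (hp.2.2 r (O.L_le_a (O.mem_L (O.Q_le r hr).1 (mul_inv_eq_iff_eq_mul.1 e1)
      (mul_inv_eq_iff_eq_mul.1 e2)))).symm
  suffices h : q * d * q⁻¹ = d from (mul_inv_eq_iff_eq_mul.1 h).symm
  rcases O.act_a q hq with e1 | e1 <;> rcases O.act_b q hq with e2 | e2
  · exact fixE q hq e1 e2
  · exact ha q hq e1 e2
  · exact hb q hq e2 e1
  · obtain ⟨r, hr, f1, f2⟩ := O.ex_a
    have fr := ha r hr f1 f2
    have k : ∀ x y w : X, q * x * q⁻¹ = y → r⁻¹ * y * r = w → (r⁻¹ * q) * x * (r⁻¹ * q)⁻¹ = w :=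
      fun x y w h1 h2 => by rw [← h2, ← h1]; group
    have z1 : r⁻¹ * z * r = z := by rw [mul_assoc, ← (O.Q_le r hr).2, ← mul_assoc, inv_mul_cancel, one_mul]
    have ia : r⁻¹ * (a * z) * r = a * z := by
      have : r⁻¹ * a * r = a := by conv_lhs => rw [← f1]
                                   group
      rw [show r⁻¹ * (a * z) * r = (r⁻¹ * a * r) * (r⁻¹ * z * r) by group, this, z1]
    have ib : r⁻¹ * (b * z) * r = b := by rw [← f2]; group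
    have hrq : r⁻¹ * q ∈ Q := mul_mem (inv_mem hr) hq
    have := hb _ hrq (k b _ _ e2 ib) (k a _ _ e1 ia)
    calc q * d * q⁻¹ = r * ((r⁻¹ * q) * d * (r⁻¹ * q)⁻¹) * r⁻¹ := by group
      _ = d := by rw [this, fr]

/-- A common point of `a` and `b` is not a point of `a * b`. -/
theorem not_common (O : OData G₀ z a b Q Ka Kb Kab) {d : X} (hp : Pt G₀ Ka a d) (hp' : Pt G₀ Kb b d) :
    ¬ Pt G₀ Kab (a * b) d := by
  intro h3
  obtain ⟨r, hr, r1, r2⟩ := O.ex_a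
  obtain ⟨s, hs, s1, s2⟩ := O.ex_b
  obtain ⟨hr0, hrz⟩ := O.Q_le r hr
  obtain ⟨hs0, -⟩ := O.Q_le s hs
  obtain ⟨-, za, zb, zab⟩ := O.z_ne
  have rz : r * z * r⁻¹ = z := mul_inv_eq_iff_eq_mul.2 hrz
  have q1 : (r * s) * (a * b) * (r * s)⁻¹ = a * b := by
    calc (r * s) * (a * b) * (r * s)⁻¹ = r * ((s * a * s⁻¹) * (s * b * s⁻¹)) * r⁻¹ := by group
      _ = (r * a * r⁻¹) * ((r * z * r⁻¹) * (r * b * r⁻¹)) := by rw [s1, s2]; group
      _ = a * (z * (b * z)) := by rw [r1, r2, rz]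
      _ = a * b := by rw [← mul_assoc z b, O.zb, mul_assoc b, O.z_sq, mul_one]
  have mv := O.conj_pt O.dab h3 (mul_mem hr0 hs0) q1
  have both : ∀ t u, s * d * s⁻¹ = d * t → r * d * r⁻¹ = d * u → r * t * r⁻¹ ≠ u⁻¹ →
      r * t * r⁻¹ ≠ u⁻¹ * (a * b) → False := fun t u e1 e2 n1 n2 => by
    have e : (r * s) * d * (r * s)⁻¹ = d * (u * (r * t * r⁻¹)) := by
      calc (r * s) * d * (r * s)⁻¹ = r * (s * d * s⁻¹) * r⁻¹ := by group
        _ = (r * d * r⁻¹) * (r * t * r⁻¹) := by rw [e1]; group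
        _ = d * (u * (r * t * r⁻¹)) := by rw [e2]; group
    rw [e] at mv
    rcases mv with m | m
    · exact n1 (eq_inv_of_mul_eq_one_right (mul_eq_left.1 m))
    · exact n2 (eq_inv_mul_iff_mul_eq.2 (mul_left_cancel m))
  have ia : a⁻¹ = a := inv_eq_of_mul_eq_one_left O.a_sq
  rcases O.conj_pt O.da hp hr0 r1 with e | e <;> rcases O.conj_pt O.db hp' hs0 s1 with f | f
  · refine O.not_fixed hp (fun q hq q1 q2 => ?_) (fun q hq q1 q2 => ?_)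
    · -- `q` differs from `r` by an element fixing both
      have : r⁻¹ * q ∈ CL G₀ a b := O.mem_L (mul_mem (inv_mem hr0) (O.Q_le q hq).1)
        (mul_inv_eq_iff_eq_mul.1 (show (r⁻¹ * q) * a * (r⁻¹ * q)⁻¹ = a by
          calc (r⁻¹ * q) * a * (r⁻¹ * q)⁻¹ = r⁻¹ * (q * a * q⁻¹) * r := by group
            _ = r⁻¹ * (r * a * r⁻¹) * r := by rw [q1, r1]
            _ = a := by group))
        (mul_inv_eq_iff_eq_mul.1 (show (r⁻¹ * q) * b * (r⁻¹ * q)⁻¹ = b by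
          calc (r⁻¹ * q) * b * (r⁻¹ * q)⁻¹ = r⁻¹ * (q * b * q⁻¹) * r := by group
            _ = r⁻¹ * (r * b * r⁻¹) * r := by rw [q2, r2]
            _ = b := by group))
      have h4 := hp.2.2 _ (O.L_le_a this)
      calc q * d * q⁻¹ = r * ((r⁻¹ * q) * d) * (r⁻¹ * q)⁻¹ * r⁻¹ := by group
        _ = r * d * r⁻¹ := by rw [← h4]; group
        _ = d := e
    · have : s⁻¹ * q ∈ CL G₀ a b := O.mem_L (mul_mem (inv_mem hs0) (O.Q_le q hq).1)
        (mul_inv_eq_iff_eq_mul.1 (show (s⁻¹ * q) * a * (s⁻¹ * q)⁻¹ = a by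
          calc (s⁻¹ * q) * a * (s⁻¹ * q)⁻¹ = s⁻¹ * (q * a * q⁻¹) * s := by group
            _ = s⁻¹ * (s * a * s⁻¹) * s := by rw [q2, s2]
            _ = a := by group))
        (mul_inv_eq_iff_eq_mul.1 (show (s⁻¹ * q) * b * (s⁻¹ * q)⁻¹ = b by
          calc (s⁻¹ * q) * b * (s⁻¹ * q)⁻¹ = s⁻¹ * (q * b * q⁻¹) * s := by group
            _ = s⁻¹ * (s * b * s⁻¹) * s := by rw [q1, s1]
            _ = b := by group))
      have h4 := hp.2.2 _ (O.L_le_a this)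
      calc q * d * q⁻¹ = s * ((s⁻¹ * q) * d) * (s⁻¹ * q)⁻¹ * s⁻¹ := by group
        _ = s * d * s⁻¹ := by rw [← h4]; group
        _ = d := f
  · refine both b 1 f (by rw [e, mul_one]) ?_ ?_ <;> rw [r2, inv_one]
    · exact fun h => zb ((mul_eq_one_iff_eq_inv.1 h).trans (inv_eq_of_mul_eq_one_left O.z_sq)).symm
    · rw [one_mul]
      intro h
      refine za (mul_left_cancel (a := b) ?_)
      rw [h, O.comm]
  · refine both 1 a (by rw [f, mul_one]) e ?_ ?_ <;> rw [mul_one, mul_inv_cancel, ia]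
    · exact fun h => O.a_ne h.symm
    · rw [← mul_assoc, O.a_sq, one_mul]; exact fun h => O.b_ne h.symm
  · refine both b a f e ?_ ?_ <;> rw [r2, ia]
    · intro h
      refine zab (mul_left_cancel (a := b) ?_)
      rw [h, ← mul_assoc, ← O.comm, mul_assoc, O.b_sq, mul_one]
    · rw [← mul_assoc, O.a_sq, one_mul]
      intro h
      exact O.z_ne.1 (mul_eq_left.1 h)

/-- The chosen point. -/
theorem exists_good (O : OData G₀ z a b Q Ka Kb Kab) : ∃ d, Good G₀ z a b Ka Kb Kab d := by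
  obtain ⟨d, h1, h2, h3⟩ := O.exists_meet
  exact ⟨d, h1, h2, O.not_common h1 h2, h3, (O.pt_comm h1).1⟩

variable {d : X}

/-- Some element fixing `a` exchanges the two points of `a`; likewise for `b`. -/
theorem exists_swap (O : OData G₀ z a b Q Ka Kb Kab) (hd : Good G₀ z a b Ka Kb Kab d) :
    ∃ g ∈ Cg G₀ a, g * d * g⁻¹ = d * a := by
  by_contra hne
  push_neg at hne
  obtain ⟨h1, h2, -, -, -⟩ := hd
  have fix : ∀ g ∈ G₀, g * a * g⁻¹ = a → g * d * g⁻¹ = d := fun g hg he =>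
    (O.conj_pt O.da h1 hg he).resolve_right (hne g (mem_Cg.2 ⟨hg, mul_inv_eq_iff_eq_mul.1 he⟩))
  obtain ⟨g, hg, hgb⟩ := O.conj
  have h4 := h1.conj O.da O.db (normal_of_index_eq_two O.idx) hgb
  refine O.not_fixed h1 (fun q hq e _ => fix q (O.Q_le q hq).1 e) fun q hq e _ => ?_
  have hq0 := (O.Q_le q hq).1
  have e' : (g⁻¹ * q * g) * a * (g⁻¹ * q * g)⁻¹ = a := by
    calc (g⁻¹ * q * g) * a * (g⁻¹ * q * g)⁻¹ = g⁻¹ * (q * (g * a * g⁻¹) * q⁻¹) * g := by group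
      _ = g⁻¹ * (g * a * g⁻¹) * g := by rw [hgb, e]
      _ = a := by group
  have f := fix _ (mul_mem (mul_mem (inv_mem hg) hq0) hg) e'
  have f' : q * (g * d * g⁻¹) * q⁻¹ = g * d * g⁻¹ := by
    conv_rhs => rw [← f]
    group
  have hk := h4.eq_or h2 O.db O.idx
  generalize g * d * g⁻¹ = h at f' hk
  rcases hk with k | k
  · rw [k]; exact f'
  · rw [k]
    calc q * (h * b) * q⁻¹ = (q * h * q⁻¹) * (q * b * q⁻¹) := by group
      _ = h * b := by rw [f', e]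

/-- The centraliser of `a` in that of `d` is `Ka`. -/
theorem cent_a (O : OData G₀ z a b Q Ka Kb Kab) (hd : Good G₀ z a b Ka Kb Kab d) {g : X} :
    g ∈ Ka ↔ (g ∈ G₀ ∧ g * a = a * g) ∧ g * d = d * g := by
  refine ⟨fun h => ⟨mem_Cg.1 (O.da.le h), (hd.1.2.2 g h).symm⟩, fun h => ?_⟩
  by_contra hg
  obtain ⟨σ, hσ, hσd⟩ := O.exists_swap hd
  have hσK : σ ∉ Ka := fun hK => by
    rw [mul_inv_eq_iff_eq_mul.2 (hd.1.2.2 σ hK).symm] at hσd
    exact O.a_ne (mul_eq_left.1 hσd.symm)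
  have hm : g * σ ∈ Ka :=
    ((mul_mem_iff_of_index_two (a := (⟨g, mem_Cg.2 h.1⟩ : Cg G₀ a)) (b := ⟨σ, hσ⟩) O.da.index).2
      ⟨fun x => (hg x).elim, fun x => (hσK x).elim⟩)
  have e := mul_inv_eq_iff_eq_mul.2 (hd.1.2.2 _ hm).symm
  rw [show g * σ * d * (g * σ)⁻¹ = g * (σ * d * σ⁻¹) * g⁻¹ by group, hσd,
    show g * (d * a) * g⁻¹ = (g * d * g⁻¹) * (g * a * g⁻¹) by group,
    mul_inv_eq_iff_eq_mul.2 h.2, mul_inv_eq_iff_eq_mul.2 h.1.2] at e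
  exact O.a_ne (mul_eq_left.1 e)

/-- `a` and `b` are conjugate in the centraliser of `d`. -/
theorem exists_conj (O : OData G₀ z a b Q Ka Kb Kab) (hd : Good G₀ z a b Ka Kb Kab d) :
    ∃ g ∈ G₀, g * d = d * g ∧ g * a * g⁻¹ = b := by
  obtain ⟨g, hg, hgb⟩ := O.conj
  obtain ⟨σ, hσ, hσd⟩ := O.exists_swap hd
  obtain ⟨hσ0, hσa⟩ := mem_Cg.1 hσ
  rcases (hd.1.conj O.da O.db (normal_of_index_eq_two O.idx) hgb).eq_or hd.2.1 O.db O.idx with k | k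
  · exact ⟨g, hg, mul_inv_eq_iff_eq_mul.1 k.symm, hgb⟩
  · refine ⟨g * σ, mul_mem hg hσ0, mul_inv_eq_iff_eq_mul.1 ?_, ?_⟩
    · conv_rhs => rw [k]
      rw [← hgb, show g * σ * d * (g * σ)⁻¹ = g * (σ * d * σ⁻¹) * g⁻¹ by group, hσd]
      group
    · rw [show g * σ * a * (g * σ)⁻¹ = g * (σ * a * σ⁻¹) * g⁻¹ by group, mul_inv_eq_iff_eq_mul.2 hσa, hgb]

/-- No element of `Ka` takes `b` to `a * b`. -/
theorem no_move (O : OData G₀ z a b Q Ka Kb Kab) (hd : Good G₀ z a b Ka Kb Kab d) {k : X} (hk : k ∈ Ka) :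
    k * b * k⁻¹ ≠ a * b := fun e => by
  obtain ⟨⟨h0, -⟩, hd'⟩ := (O.cent_a hd).1 hk
  have h := hd.2.1.conj O.db O.dab (normal_of_index_eq_two O.idx) e
  rw [mul_inv_eq_iff_eq_mul.2 hd'] at h
  exact hd.2.2.1 h

/-- An element of `Ka` takes `b` to a commuting involution different from it modulo `a`. -/
theorem exists_move (O : OData G₀ z a b Q Ka Kb Kab) (hd : Good G₀ z a b Ka Kb Kab d) :
    ∃ g ∈ Ka, g * b * g⁻¹ = b * z ∨ g * b * g⁻¹ = a * (b * z) := by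
  obtain ⟨r, hr, r1, r2⟩ := O.ex_a
  by_cases hrK : r ∈ Ka
  · exact ⟨r, hrK, Or.inl r2⟩
  obtain ⟨s, hs, sz, s1, s2⟩ := O.swap
  have hsK : s ∉ Ka := fun h => O.no_move hd h s2
  have hr' : r ∈ Cg G₀ a := mem_Cg.2 ⟨(O.Q_le r hr).1, mul_inv_eq_iff_eq_mul.1 r1⟩
  have hs' : s ∈ Cg G₀ a := mem_Cg.2 ⟨hs, mul_inv_eq_iff_eq_mul.1 s1⟩
  refine ⟨s * r, (mul_mem_iff_of_index_two (a := (⟨s, hs'⟩ : Cg G₀ a)) (b := ⟨r, hr'⟩) O.da.index).2
    ⟨fun x => (hsK x).elim, fun x => (hrK x).elim⟩, Or.inr ?_⟩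
  rw [show s * r * b * (s * r)⁻¹ = s * (r * b * r⁻¹) * s⁻¹ by group, r2,
    show s * (b * z) * s⁻¹ = (s * b * s⁻¹) * (s * z * s⁻¹) by group, s2,
    mul_inv_eq_iff_eq_mul.2 sz, mul_assoc]

end OData

end CfsgLib.ClassK.FiOuter
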