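import Cfsg.Agent.Lib.Trans3.FiLarge.U6.Setting
import Cfsg.Agent.Lib.Trans3.FiLarge.Fusion
import Cfsg.Agent.Lib.Trans3.FiLarge.Setting

/-!
Facts inside the centraliser of `z` used to fix an outer element at a small involution.
-/

set_option autoImplicit false
set_option linter.unusedSectionVars false

namespace CfsgLib.ClassK.FiOuter

open Matrix CfsgLib.Chev.U43U6 CfsgLib.Trans3.FiLarge CfsgLib.Trans3.FischerType.PairCode Subgroup
open CfsgLib.InvChar (FQ4)

theorem f4_cube : ∀ x : F4, x ≠ 0 → x * x ^ 2 = 1 := by decide +kernel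

theorem om_vals : (1 : F4) + 1 ^ 2 = 0 ∧ (om ^ 2 * 1) + (om ^ 2 * 1) ^ 2 ≠ 0 ∧ om + om ^ 2 ≠ 0 ∧
    (om ^ 2 * om) + (om ^ 2 * om) ^ 2 = 0 ∧ om ^ 2 = 1 + om := by decide +kernel

theorem exists_herm {v : V6} (hv : v ≠ 0) (c : F4) : ∃ w : V6, herm6 w v = c := by
  obtain ⟨i, hi⟩ := Function.ne_iff.1 hv
  refine ⟨Pi.single i (c * v i), ?_⟩
  show (∑ k, (Pi.single i (c * v i) : V6) k * v k ^ 2) = c
  rw [Finset.sum_eq_single i (fun k _ hk => by simp [hk]) (by simp), Pi.single_eq_same, mul_assoc,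
    f4_cube _ hi, mul_one]

theorem herm_om (w v : V6) : herm6 w (om • v) = om ^ 2 * herm6 w v := by
  show (∑ k, w k * (om * v k) ^ 2) = om ^ 2 * ∑ k, w k * v k ^ 2
  rw [Finset.mul_sum]
  exact Finset.sum_congr rfl fun k _ => by ring

variable {G : Type*} [Group G] [Finite G] {z : G} {Q : Subgroup (Subgroup.centralizer ({z} : Set G))}
  [Q.Normal]

/-- Small involutions are conjugate in the centraliser of `z`. -/
theorem small_conj (hF : Cfsg.IsOfLargeFischerTypeAt z Q) (c : Coord z Q) {x y : G} (hx : x ∈ qg Q)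
    (hy : y ∈ qg Q) (x2 : orderOf x = 2) (y2 : orderOf y = 2) (hxz : ¬ IsConj z x) (hyz : ¬ IsConj z y) :
    ∃ m : G, m * z = z * m ∧ m * x * m⁻¹ = y := by
  obtain ⟨q, hq, rfl⟩ := hx
  obtain ⟨r, hr, rfl⟩ := hy
  simp only [Subgroup.coe_subtype, orderOf_coe] at *
  have nz : ∀ u : Subgroup.centralizer ({z} : Set G), ¬ IsConj z (u : G) → (u : G) ≠ z := fun u h e =>
    h (by rw [e])
  have sm : ∀ u ∈ Q, orderOf u = 2 → ¬ IsConj z (u : G) → InSmall c.b (c.pr u) := fun u hu h2 h =>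
    (class_cases c hu h2 (nz u h)).resolve_right fun hb => h ((big_iff_conj hF c hu (nz u h)).1 hb)
  obtain ⟨m, -, e⟩ := conj_of_class c hq hr (pr_ne_zero c hr y2 (nz r hyz))
    (InSmall.trans (sm q hq x2 hxz) (sm r hr y2 hyz))
  exact ⟨m, mem_centralizer_singleton_iff.1 m.2, by
    simpa using congrArg (Subtype.val) e⟩

/-- An element centralising all of `Q` lies in `⟨z⟩`. -/
theorem cent_Q (hF : Cfsg.IsOfLargeFischerTypeAt z Q) (c : Coord z Q) {x : G} (hxz : x * z = z * x)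
    (h : ∀ q ∈ qg Q, x * q = q * x) : x = 1 ∨ x = z := by
  let u : Subgroup.centralizer ({z} : Set G) := ⟨x, mem_centralizer_singleton_iff.2 hxz⟩
  have huQ : u ∈ Q := CfsgLib.Trans3.FiLarge.cent_le hF.1 (mem_centralizer_iff.2 fun q hq => Subtype.ext (h q (mem_qg.2 hq)).symm)
  refine (c.pr_eq_zero u huQ).1 (by_contra fun h0 => ?_)
  obtain ⟨w, hw⟩ := exists_trace_ne h0
  obtain ⟨q, hq, rfl⟩ := c.pr_surj w
  exact hw ((c.comm_iff u huQ q hq).1 (Subtype.ext (h q (mem_qg.2 hq))))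

/-- Conjugation inside `Q` changes an element at most by `z`. -/
theorem act_Q (c : Coord z Q) {q x : G} (hq : q ∈ qg Q) (hx : x ∈ qg Q) :
    q * x * q⁻¹ = x ∨ q * x * q⁻¹ = x * z := by
  have h : prG c x = prG c (q * x * q⁻¹) := by
    rw [prG_mul c (mul_mem hq hx) (inv_mem hq), prG_mul c hq hx, prG_inv c hq, add_comm (prG c q), add_assoc,
      pf_self, add_zero]
  exact (prG_eq_iff c hx (mul_mem (mul_mem hq hx) (inv_mem hq))).1 h

/-- Over `v` and `ω v`, some element of `Q` fixes one and moves the other. -/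
theorem exists_movers (c : Coord z Q) {a b : G} (ha : a ∈ qg Q) (hb : b ∈ qg Q) (hv : prG c a ≠ 0)
    (he : prG c b = om • prG c a) :
    (∃ q ∈ qg Q, q * a * q⁻¹ = a ∧ q * b * q⁻¹ = b * z) ∧
      ∃ q ∈ qg Q, q * b * q⁻¹ = b ∧ q * a * q⁻¹ = a * z := by
  have cm : ∀ q x : G, q ∈ qg Q → x ∈ qg Q →
      (q * x = x * q ↔ herm6 (prG c q) (prG c x) + herm6 (prG c q) (prG c x) ^ 2 = 0) := by
    rintro _ _ ⟨q, hq, rfl⟩ ⟨x, hx, rfl⟩
    simp only [Subgroup.coe_subtype, prG_coe]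
    rw [← c.comm_iff q hq x hx]
    exact ⟨fun e => Subtype.ext e, fun e => congrArg Subtype.val e⟩
  obtain ⟨o1, o2, o3, o4, -⟩ := om_vals
  constructor
  · obtain ⟨w, hw⟩ := exists_herm hv 1
    obtain ⟨q, hq, rfl⟩ := prG_surj c w
    refine ⟨q, hq, mul_inv_eq_iff_eq_mul.2 ((cm q a hq ha).2 (by rw [hw]; exact o1)),
      (act_Q c hq hb).resolve_left fun e => o2 ?_⟩
    have := (cm q b hq hb).1 (mul_inv_eq_iff_eq_mul.1 e)
    rwa [he, herm_om, hw] at this
  · obtain ⟨w, hw⟩ := exists_herm hv om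
    obtain ⟨q, hq, rfl⟩ := prG_surj c w
    refine ⟨q, hq, mul_inv_eq_iff_eq_mul.2 ((cm q b hq hb).2 (by rw [he, herm_om, hw]; exact o4)),
      (act_Q c hq ha).resolve_left fun e => o3 ?_⟩
    have := (cm q a hq ha).1 (mul_inv_eq_iff_eq_mul.1 e)
    rwa [hw] at this

/-- An element of the centraliser of `z` fixing `a` takes `b` to `a b`. -/
theorem exists_swap (hF : Cfsg.IsOfLargeFischerTypeAt z Q) (c : Coord z Q) (hsemi : OuterSemi c) (hz2 : z * z = 1) {a b : G} (ha : a ∈ qg Q) (hb : b ∈ qg Q)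
    (hsm : InSmall c.b (prG c a)) (he : prG c b = om • prG c a) :
    ∃ s : G, s * z = z * s ∧ s * a * s⁻¹ = a ∧ s * b * s⁻¹ = a * b := by
  have hv := (isotropic_of_orbit (Or.inl hsm)).1
  obtain ⟨r, hr, r1, r2⟩ := (exists_movers c ha hb hv he).1
  obtain ⟨q, hq, rfl⟩ := ha
  obtain ⟨p, hp, rfl⟩ := hb
  simp only [Subgroup.coe_subtype, prG_coe] at *
  obtain ⟨h, hh⟩ : ∃ h, h ∉ c.M := by
    by_contra hc
    push Not at hc
    exact absurd c.index_M (by rw [show c.M = ⊤ from eq_top_iff.2 (fun x _ => hc x), index_top]; norm_num)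
  obtain ⟨k, hk⟩ : ∃ k, k = h * q * h⁻¹ := ⟨_, rfl⟩
  have hkQ : k ∈ Q := hk ▸ Subgroup.Normal.conj_mem inferInstance q hq h
  -- the outer element moves the line to a line through a small vector
  have hks : InSmall c.b (c.pr k) := by
    have hkz : (k : G) ≠ z := fun e => by
      have h0 : c.pr k = 0 := (c.pr_eq_zero k hkQ).2 (Or.inr e)
      have e2 : (q : G) = z := by
        have hc' : (h : G) * q * (h : G)⁻¹ = z := (congrArg Subtype.val hk).symm.trans e
        calc (q : G) = (h : G)⁻¹ * ((h : G) * q * (h : G)⁻¹) * h := by group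
          _ = z := by rw [hc', mul_assoc, ← mem_centralizer_singleton_iff.1 h.2, inv_mul_cancel_left]
      exact hv ((c.pr_eq_zero q hq).2 (Or.inr e2))
    obtain ⟨e, he', hs1, hs2⟩ := c.semi h
    have hk0 : c.pr k ≠ 0 := fun h0 => by
      rcases (c.pr_eq_zero k hkQ).1 h0 with e1 | e1
      · have : q = 1 := by
          have hk1 : k = 1 := Subtype.ext e1
          rw [hk] at hk1
          exact conj_eq_one_iff.1 hk1
        exact hv (by rw [this]; exact (c.pr_eq_zero 1 (one_mem Q)).2 (Or.inl rfl))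
      · exact hkz e1
    refine (iso_cases c.b hk0 ?_).resolve_right fun hbig => ?_
    · rw [hk, hs2 q hq q hq, (isotropic_of_orbit (Or.inl hsm)).2, zero_pow (by omega)]
    · have hqz : (q : G) ≠ z := fun e => hv ((c.pr_eq_zero q hq).2 (Or.inr e))
      refine small_ne_big hsm ((big_iff_conj hF c hq hqz).2 ?_)
      refine ((big_iff_conj hF c hkQ hkz).1 hbig).trans (isConj_iff.2 ⟨(h : G)⁻¹, ?_⟩)
      rw [hk]
      push_cast
      group
  obtain ⟨m, hm, e⟩ := conj_of_class c hkQ hq hv (InSmall.trans hks hsm)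
  have hs : m * h ∉ c.M := fun hc => hh ((Subgroup.mul_mem_cancel_left c.M hm).1 hc)
  have hsq : (m * h) * q * (m * h)⁻¹ = q := by
    calc (m * h) * q * (m * h)⁻¹ = m * (h * q * h⁻¹) * m⁻¹ := by group
      _ = q := by rw [← hk, e]
  have hsp := hsemi (m * h) hs q hq p hp om he
  rw [hsq] at hsp
  have hz' : ((m * h : Subgroup.centralizer ({z} : Set G)) : G) * z = z * (m * h : Subgroup.centralizer ({z} : Set G)) :=
    mem_centralizer_singleton_iff.1 (m * h).2
  have hqg : ∀ {u : Subgroup.centralizer ({z} : Set G)}, u ∈ Q → (u : G) ∈ qg Q := fun hu => mem_qg.2 hu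
  have hsQ : (m * h) * p * (m * h)⁻¹ ∈ Q := Subgroup.Normal.conj_mem inferInstance p hp _
  have hpr : prG c (((m * h) * p * (m * h)⁻¹ : Subgroup.centralizer ({z} : Set G)) : G) =
      prG c ((q : G) * p) := by
    rw [prG_coe, prG_mul c (hqg hq) (hqg hp), prG_coe, prG_coe, hsp, he, om_vals.2.2.2.2, add_smul, one_smul]
  rcases (prG_eq_iff c (hqg hsQ) (mul_mem (hqg hq) (hqg hp))).1 hpr with e1 | e1
  · exact ⟨_, hz', congrArg Subtype.val hsq, e1.symm⟩
  · refine ⟨r * ((m * h : Subgroup.centralizer ({z} : Set G)) : G), ?_, ?_, ?_⟩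
    · exact Commute.mul_left (mem_centralizer_singleton_iff.1 (qg_le hr)) hz'
    · calc _ = r * (((m * h) * q * (m * h)⁻¹ : Subgroup.centralizer ({z} : Set G)) : G) * r⁻¹ := by
            push_cast; group
        _ = (q : G) := by rw [hsq, r1]
    · have e2 : (((m * h) * p * (m * h)⁻¹ : Subgroup.centralizer ({z} : Set G)) : G) = (q : G) * p * z := by
        rw [e1, mul_assoc _ z z, hz2, mul_one]
      calc _ = r * (((m * h) * p * (m * h)⁻¹ : Subgroup.centralizer ({z} : Set G)) : G) * r⁻¹ := by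
            push_cast; group
        _ = (r * q * r⁻¹) * (r * p * r⁻¹) * (r * z * r⁻¹) := by rw [e2]; group
        _ = (q : G) * p := by
            rw [r1, r2, mul_inv_eq_iff_eq_mul.2 (mem_centralizer_singleton_iff.1 (qg_le hr)), ← mul_assoc (q : G),
              mul_assoc _ z z, hz2, mul_one]

end CfsgLib.ClassK.FiOuter
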