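import Cfsg.Agent.Lib.ClassK.FiOuter.Basic

/-!
When the centraliser of `x` in `G₀` modulo `x` is the whole automorphism group of a simple group, an element of
the ambient centraliser outside `G₀` can be changed so that it centralises the perfect subgroup of index two.
-/

set_option autoImplicit false

namespace CfsgLib.ClassK.FiOuter

open scoped commutatorElement
open Subgroup

variable {X : Type*} [Group X] {G₀ : Subgroup X} {x : X} {K : Subgroup X}

/-- A simple noncommutative group is perfect, read on the inner automorphisms. -/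
theorem inn_facts {S : Type*} [Group S] [IsSimpleGroup S] (hS : ∃ s t : S, s * t ≠ t * s) :
    Function.Injective (MulAut.conj (G := S)) ∧
      ⁅(MulAut.conj (G := S)).range, (MulAut.conj (G := S)).range⁆ = (MulAut.conj (G := S)).range := by
  obtain ⟨s, t, hst⟩ := hS
  have hp : ⁅(⊤ : Subgroup S), ⊤⁆ = ⊤ :=
    (Subgroup.Normal.eq_bot_or_eq_top (H := ⁅(⊤ : Subgroup S), ⊤⁆) inferInstance).resolve_left fun h => by
      have := Subgroup.commutator_mem_commutator (mem_top s) (mem_top t)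
      rw [h, mem_bot, commutatorElement_eq_one_iff_mul_comm] at this
      exact hst this
  refine ⟨(MonoidHom.ker_eq_bot_iff _).1 ?_, by rw [MonoidHom.range_eq_map, ← map_commutator, hp]⟩
  refine (Subgroup.Normal.eq_bot_or_eq_top (H := (MulAut.conj (G := S)).ker) inferInstance).resolve_right
    fun h => hst ?_
  have : MulAut.conj s = 1 := by rw [← MonoidHom.mem_ker, h]; exact mem_top s
  have h2 : s * t * s⁻¹ = t := by simpa using DFunLike.congr_fun this t
  exact mul_inv_eq_iff_eq_mul.1 h2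

theorem kdata {S : Type*} [Group S] [Finite S] [IsSimpleGroup S] (hS : ∃ s t : S, s * t ≠ t * s)
    (hcard : Nat.card (MulAut S) = 2 * Nat.card S) (hi : G₀.index = 2) (hle : K ≤ Cg G₀ x)
    (hperf : ⁅K, K⁆ = K) (hidx : (K.subgroupOf (Cg G₀ x)).index = 2) (hmem : x ∈ K)
    (φ : Cg G₀ x →* MulAut S) (hφ : Function.Surjective φ)
    (hker : ∀ c : Cg G₀ x, φ c = 1 ↔ (c : X) = 1 ∨ (c : X) = x)
    (hout : ∃ g, g ∉ G₀ ∧ g * x = x * g) : KData G₀ x K := by
  obtain ⟨hinj, hIperf⟩ := inn_facts hS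
  set I := (MulAut.conj (G := S)).range with hI
  have hIcard : Nat.card I = Nat.card S := Nat.card_congr (MonoidHom.ofInjective hinj).toEquiv.symm
  have hIidx : I.index = 2 := by
    have h := I.card_mul_index
    rw [hIcard, hcard, mul_comm 2] at h
    exact Nat.eq_of_mul_eq_mul_left Nat.card_pos h
  set N := (K.subgroupOf (Cg G₀ x)).map φ with hN
  have hker' : φ.ker ≤ K.subgroupOf (Cg G₀ x) := fun c hc => by
    rcases (hker c).1 (MonoidHom.mem_ker.1 hc) with e | e <;> rw [mem_subgroupOf, e]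
    exacts [one_mem K, hmem]
  have hKperf : ⁅K.subgroupOf (Cg G₀ x), K.subgroupOf (Cg G₀ x)⁆ = K.subgroupOf (Cg G₀ x) := by
    apply map_injective (subtype_injective (Cg G₀ x))
    rw [map_commutator, map_subgroupOf_eq_of_le hle, hperf]
  have hNI : N = I := by
    refine le_antisymm ?_ ?_
    · refine perfect_le (C := ⊤) le_top (by rw [hN, ← map_commutator, hKperf]) ?_
      rw [← relIndex, relIndex_top_right, hIidx]
    · refine perfect_le (C := ⊤) le_top hIperf ?_
      rw [← relIndex, relIndex_top_right, hN, index_map_eq _ hφ hker', hidx]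
  have hconj : ∀ k : K, ∃ s : S, MulAut.conj s = φ ⟨k, hle k.2⟩ := fun k => by
    have : φ ⟨k, hle k.2⟩ ∈ I := hNI ▸ ⟨_, k.2, rfl⟩
    exact this
  choose π hπ using hconj
  let π' : K →* S := MonoidHom.mk' π fun a b => hinj (by
    rw [map_mul, hπ, hπ, hπ, ← map_mul]; rfl)
  have hπs : Function.Surjective π' := fun s => by
    obtain ⟨c, hc, e⟩ : MulAut.conj s ∈ N := hNI.symm ▸ ⟨s, rfl⟩
    exact ⟨⟨c, hc⟩, hinj ((hπ _).trans e)⟩
  have uniq : ∀ c ∈ Cg G₀ x, (∀ k ∈ K, c * k = k * c) → c = 1 ∨ c = x := fun c hc hk => by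
    refine (hker ⟨c, hc⟩).1 (MulEquiv.ext fun s => ?_)
    obtain ⟨k, rfl⟩ := hπs s
    refine hinj ?_
    have e : (⟨c, hc⟩ : Cg G₀ x) * ⟨k, hle k.2⟩ * (⟨c, hc⟩ : Cg G₀ x)⁻¹ = ⟨k, hle k.2⟩ :=
      Subtype.ext (mul_inv_eq_iff_eq_mul.2 (hk k k.2))
    have e' := congrArg φ e
    rw [map_mul, map_mul, map_inv, ← hπ k] at e'
    simp only [MulAut.one_apply]
    refine Eq.trans ?_ e'
    ext t
    simp [π']
  refine ⟨hle, hperf, hidx, hmem, ?_, uniq⟩
  obtain ⟨g, hg, hgx⟩ := hout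
  haveI := normal_of_index_eq_two hi
  have hgK : ∀ k ∈ K, g * k * g⁻¹ ∈ K := fun k hk => by
    refine perfect_le (C := Cg G₀ x) (P := K.map (MulAut.conj g).toMonoidHom) ?_
      (by rw [← map_commutator, hperf]) hidx ⟨k, hk, by simp⟩
    rintro _ ⟨m, hm, rfl⟩
    obtain ⟨m1, m2⟩ := mem_Cg.1 (hle hm)
    simp only [MulEquiv.toMonoidHom_eq_coe, MonoidHom.coe_coe, MulAut.conj_apply]
    exact mem_Cg.2 ⟨Normal.conj_mem inferInstance m m1 g,
      Commute.mul_left (Commute.mul_left hgx m2) (Commute.inv_left hgx)⟩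
  let f : K →* S := π'.comp (MonoidHom.mk' (fun k : K => (⟨g * k * g⁻¹, hgK k k.2⟩ : K))
    fun a b => Subtype.ext (by simp))
  have hfker : π'.ker ≤ f.ker := fun k hk => by
    have h1 : φ ⟨k, hle k.2⟩ = 1 := by rw [← hπ k, show π k = 1 from hk, map_one]
    have h2 : g * (k : X) * g⁻¹ = k := mul_inv_eq_iff_eq_mul.2 <| by
      rcases (hker _).1 h1 with e | e <;> simp only at e <;> rw [e]
      exacts [by simp, hgx]
    show π ⟨g * k * g⁻¹, _⟩ = 1
    rw [show (⟨g * (k : X) * g⁻¹, hgK k k.2⟩ : K) = k from Subtype.ext h2]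
    exact hk
  let θ₀ : S →* S := π'.liftOfSurjective hπs ⟨f, hfker⟩
  have hθ : ∀ k, θ₀ (π' k) = f k :=
    DFunLike.congr_fun (MonoidHom.liftOfRightInverse_comp π' _ (Function.rightInverse_surjInv hπs) ⟨f, hfker⟩)
  have hθs : Function.Surjective θ₀ := fun s => by
    obtain ⟨k, rfl⟩ := hπs s
    have hm : g⁻¹ * k * g ∈ K := by
          have := perfect_le (C := Cg G₀ x) (P := K.map (MulAut.conj g⁻¹).toMonoidHom) ?_
            (by rw [← map_commutator, hperf]) hidx (mem_map_of_mem _ k.2)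
          · simpa using this
          rintro _ ⟨m, hm, rfl⟩
          obtain ⟨m1, m2⟩ := mem_Cg.1 (hle hm)
          simp only [MulEquiv.toMonoidHom_eq_coe, MonoidHom.coe_coe, MulAut.conj_apply]
          exact mem_Cg.2 ⟨Normal.conj_mem inferInstance m m1 g⁻¹,
            Commute.mul_left (Commute.mul_left (Commute.inv_left hgx) m2)
              (Commute.inv_left (Commute.inv_left hgx))⟩
    refine ⟨π' ⟨_, hm⟩, (hθ _).trans ?_⟩
    show π' ⟨g * (g⁻¹ * k * g) * g⁻¹, _⟩ = π' k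
    exact congrArg π' (Subtype.ext (by group))
  let θ : MulAut S := MulEquiv.ofBijective θ₀ ⟨Finite.injective_iff_surjective.2 hθs, hθs⟩
  obtain ⟨c, hc⟩ := hφ θ
  obtain ⟨hc0, hcx⟩ := mem_Cg.1 c.2
  have ε : ∀ k : K, ((c : X) * k * (c : X)⁻¹)⁻¹ * (g * k * g⁻¹) = 1 ∨
      ((c : X) * k * (c : X)⁻¹)⁻¹ * (g * k * g⁻¹) = x := fun k => by
    refine (hker ((c * ⟨k, hle k.2⟩ * c⁻¹)⁻¹ * ⟨g * k * g⁻¹, hle (hgK k k.2)⟩)).1 ?_
    rw [map_mul, map_inv, map_mul, map_mul, map_inv, hc, ← hπ k, ← hπ ⟨_, hgK k k.2⟩, inv_mul_eq_one]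
    ext t
    have e : θ (π k) = π ⟨g * k * g⁻¹, hgK k k.2⟩ := hθ k
    simp [← e]
  have hck : ∀ k ∈ K, (c : X) * k * (c : X)⁻¹ = g * k * g⁻¹ := by
    set u := g⁻¹ * (c : X) with hu
    have hux : Commute u x := Commute.mul_left (Commute.inv_left hgx) hcx
    have hxi : ∀ k ∈ K, u * k * u⁻¹ = k ∨ u * k * u⁻¹ = k * x⁻¹ := fun k hk => by
      have e : ((c : X) * k * (c : X)⁻¹)⁻¹ * (g * k * g⁻¹) = g * ((u * k * u⁻¹)⁻¹ * k) * g⁻¹ := by
        rw [hu]; group
      have gx : g⁻¹ * x * g = x := by rw [mul_assoc, ← hgx, ← mul_assoc, inv_mul_cancel, one_mul]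
      rcases ε ⟨k, hk⟩ with h | h <;> rw [e] at h
      · exact Or.inl (inv_mul_eq_one.1 (conj_eq_one_iff.1 h))
      · right
        have h' : (u * k * u⁻¹)⁻¹ * k = x := by
          conv_rhs => rw [← gx, ← h]
          group
        rw [eq_mul_inv_iff_mul_eq, ← h']
        group
    have hcomm : ∀ k ∈ K, u * k * u⁻¹ = k := by
      intro k hk
      rw [← hperf] at hk
      let H : Subgroup X := {
        carrier := {y | u * y * u⁻¹ = y}
        mul_mem' := fun {a b} (ha : u * a * u⁻¹ = a) (hb : u * b * u⁻¹ = b) => by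
          show u * (a * b) * u⁻¹ = a * b
          conv_rhs => rw [← ha, ← hb]
          group
        one_mem' := by simp
        inv_mem' := fun {a} (ha : u * a * u⁻¹ = a) => by
          show u * a⁻¹ * u⁻¹ = a⁻¹
          conv_rhs => rw [← ha]
          group }
      refine (Subgroup.commutator_le.2 fun a ha b hb => ?_ : ⁅K, K⁆ ≤ H) hk
      show u * ⁅a, b⁆ * u⁻¹ = ⁅a, b⁆
      have hxa : Commute x a := ((mem_Cg.1 (hle ha)).2).symm
      have hxb : Commute x b := ((mem_Cg.1 (hle hb)).2).symm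
      rw [show u * ⁅a, b⁆ * u⁻¹ = ⁅u * a * u⁻¹, u * b * u⁻¹⁆ by simp only [commutatorElement_def]; group]
      have cu : ∀ a b y : X, Commute y a → Commute y b → ⁅a * y, b⁆ = ⁅a, b⁆ ∧ ⁅a, b * y⁆ = ⁅a, b⁆ :=
        fun a b y h1 h2 => by
          simp only [commutatorElement_def, mul_inv_rev]
          constructor
          · rw [mul_assoc a y, h2.eq]; group
          · rw [show a * (b * y) * a⁻¹ * (y⁻¹ * b⁻¹) = a * b * (y * a⁻¹) * y⁻¹ * b⁻¹ by group,
              h1.inv_right.eq]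
            group
      rcases hxi a ha with e | e <;> rcases hxi b hb with e' | e' <;> rw [e, e']
      · exact (cu a b _ hxa.inv_left hxb.inv_left).2
      · exact (cu a b _ hxa.inv_left hxb.inv_left).1
      · rw [(cu a (b * x⁻¹) _ hxa.inv_left (hxb.inv_left.mul_right rfl)).1,
          (cu a b _ hxa.inv_left hxb.inv_left).2]
    intro k hk
    conv_rhs => rw [← hcomm k hk, hu]
    group
  refine ⟨(c : X)⁻¹ * g, fun h => hg ?_, Commute.mul_left (Commute.inv_left hcx) hgx, fun k hk => ?_⟩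
  · simpa using mul_mem hc0 h
  · apply mul_inv_eq_iff_eq_mul.1
    rw [show (c : X)⁻¹ * g * k * ((c : X)⁻¹ * g)⁻¹ = (c : X)⁻¹ * (g * k * g⁻¹) * c by group, ← hck k hk]
    group

end CfsgLib.ClassK.FiOuter
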