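import Cfsg.Agent.Lib.ClassK.FiOuter.Core
import Cfsg.Agent.Lib.Trans3.RankThree
import Cfsg.Agent.Lib.Trans3.Fi.Fi24Fusion
import Cfsg.Agent.Lib.Trans3.Fi24Loc.Axioms

/-!
The local axioms of type M(24) at the outer involution.
-/

set_option autoImplicit false

namespace CfsgLib.ClassK.FiOuter

open Subgroup CfsgLib.Trans3 CfsgLib.Trans3.Fi

variable {X : Type*} [Group X] [Finite X] {G₀ : Subgroup X} {z a b d : X} {Q Ka Kb Kab : Subgroup X}

theorem exists_fus (O : OData G₀ z a b Q Ka Kb Kab) (hd : Good G₀ z a b Ka Kb Kab d)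
    (hconj : ∃ g ∈ G₀, g * a * g⁻¹ = a * b)
    {t : ↥(G₀ ⊓ centralizer ({d} : Set X))} (ht : (t : X) = a)
    (hcl : Cfsg.IsThreeTranspositionClass (conjugatesOf t))
    (hm : Cfsg.IsOfTypeM23 ↥(G₀ ⊓ centralizer ({d} : Set X)) (conjugatesOf t))
    (hprim : Cfsg.IsPrimitiveUnderConj (conjugatesOf t)) :
    Fi24Fus.Fus d G₀ (G₀ ⊓ centralizer ({d} : Set X)) (conjugatesOf t) := by
  obtain ⟨hp, hp', -, hdd, -⟩ := id hd
  have hgrp : Cfsg.IsThreeTranspositionGroup (conjugatesOf t) :=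
    ⟨hcl.1, fun g x hx => IsConj.trans hx (isConj_iff.2 ⟨g, rfl⟩), hcl.2.2⟩
  have inY : ∀ {g : X}, g ∈ G₀ → g * d = d * g → g ∈ G₀ ⊓ centralizer ({d} : Set X) :=
    fun h h' => ⟨h, mem_centralizer_singleton_iff.2 h'⟩
  obtain ⟨g₁, hg₁, hg₁d, hg₁b⟩ := O.exists_conj hd
  let bY : ↥(G₀ ⊓ centralizer ({d} : Set X)) := ⟨b, inY O.b_mem hp'.2.1.symm⟩
  have hbY : bY ∈ conjugatesOf t :=
    isConj_iff.2 ⟨⟨g₁, inY hg₁ hg₁d⟩, Subtype.ext (by simp [bY, ht, hg₁b])⟩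
  -- the pair `a`, `b` serves for every commuting pair
  obtain ⟨g₂, hg₂, hg₂ab⟩ := hconj
  have hbase : g₂ * d * g₂⁻¹ = d ∨ g₂ * d * g₂⁻¹ = d * a ∨ g₂ * d * g₂⁻¹ = d * b ∨
      g₂ * d * g₂⁻¹ = d * (a * b) := by
    have h2 := hp.conj O.da O.dab (normal_of_index_eq_two O.idx) hg₂ab
    have hab : CL G₀ a b ≤ Kab := O.L_le O.dab fun _ h1 h2 => (Commute.mul_right h1 h2).eq
    have h3 : d⁻¹ * (g₂ * d * g₂⁻¹) ∈ G₀ := (mul_mem_iff_of_index_two O.idx).2
      ⟨fun e => (hp.1 ((inv_mem_iff).1 e)).elim, fun e => (h2.1 e).elim⟩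
    rcases O.cent _ h3 (fun l hl => Commute.mul_left (Commute.inv_left (hp.2.2 l (O.L_le_a hl)))
      (h2.2.2 l (hab hl))) with e | e | e | e
    · exact Or.inl (inv_mul_eq_one.1 e).symm
    · exact Or.inr (Or.inl (inv_mul_eq_iff_eq_mul.1 e))
    · exact Or.inr (Or.inr (Or.inl (inv_mul_eq_iff_eq_mul.1 e)))
    · exact Or.inr (Or.inr (Or.inr (inv_mul_eq_iff_eq_mul.1 e)))
  refine
    { dd := hdd
      dG := hp.1
      normal := normal_of_index_eq_two O.idx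
      Yeq := rfl
      cd := fun c hc => ?_
      grp := hgrp
      prim := hprim
      m23 := hm
      swap := ?_
      coset := ?_ }
  · by_cases h : c ∈ G₀
    · exact Or.inl (inY h hc.eq)
    · exact Or.inr (inY ((mul_mem_iff_of_index_two O.idx).2 ⟨fun e => (hp.1 e).elim, fun e => (h e).elim⟩)
        (Commute.mul_left (Commute.refl d) hc).eq)
  · obtain ⟨σ, hσ, hσd⟩ := O.exists_swap hd
    refine ⟨t, mem_conjugatesOf_self, σ, by rw [ht, hσd], ?_⟩
    rw [ht, show σ * (d * a) * σ⁻¹ = (σ * d * σ⁻¹) * (σ * a * σ⁻¹) by group, hσd,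
      mul_inv_eq_iff_eq_mul.2 (mem_Cg.1 hσ).2, mul_assoc, O.a_sq, mul_one]
  · intro a' ha' b' hb' hne hc
    obtain ⟨h, hh⟩ := isConj_iff.1 (show IsConj t a' from ha')
    let b'' := h⁻¹ * b' * h
    have hb'' : b'' ∈ conjugatesOf t :=
      IsConj.trans (show IsConj t b' from hb') (isConj_iff.2 ⟨h⁻¹, by simp [b'']⟩)
    have hne' : b'' ≠ t := fun e => hne (by rw [← hh, ← e]; simp [b'']; group)
    have hcomm' : Commute t b'' := by
      have := (Commute.conj_iff h⁻¹).2 (hh ▸ hc : Commute (h * t * h⁻¹) b')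
      rwa [inv_inv, show h⁻¹ * (h * t * h⁻¹) * h = t by group] at this
    obtain ⟨k, hk1, hk2⟩ := trans_comm hgrp hprim ⟨a', ha', b', hb', hne, hc⟩ (mem_conjugatesOf_self : t ∈ conjugatesOf t)
      hbY (fun e : bY = t => O.ab_ne ((congrArg Subtype.val e).trans ht).symm)
      (Subtype.ext (show (t : X) * b = b * t by rw [ht, O.comm])) hb'' hne' hcomm'
    obtain ⟨m, hm⟩ : ∃ m : X, m = ((h * k : ↥(G₀ ⊓ centralizer ({d} : Set X))) : X) := ⟨_, rfl⟩
    have hmd : m * d * m⁻¹ = d := by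
      rw [hm]
      exact mul_inv_eq_iff_eq_mul.2 (mem_centralizer_singleton_iff.1 (h * k).2.2)
    have ea : (a' : X) = m * a * m⁻¹ := by
      rw [← hh, hm, ← ht]
      conv_lhs => rw [← hk1]
      push_cast
      group
    have eb : (b' : X) = m * b * m⁻¹ := by
      have : b' = h * (k * bY * k⁻¹) * h⁻¹ := by rw [hk2]; simp [b'']; group
      rw [this, hm]
      simp [bY]
      group
    have mv : ∀ u : X, (m * g₂ * m⁻¹) * (m * u * m⁻¹) * (m * g₂ * m⁻¹)⁻¹ = m * (g₂ * u * g₂⁻¹) * m⁻¹ :=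
      fun u => by group
    refine ⟨m * g₂ * m⁻¹, ?_, ?_⟩
    · rw [ea, eb, mv, hg₂ab]; group
    · have e : (m * g₂ * m⁻¹) * d * (m * g₂ * m⁻¹)⁻¹ = m * (g₂ * d * g₂⁻¹) * m⁻¹ := by
        conv_lhs => rw [← hmd]
        exact mv d
      have sp : ∀ u : X, m * (d * u) * m⁻¹ = d * (m * u * m⁻¹) := fun u => by
        conv_rhs => rw [← hmd]
        group
      rw [e, ea, eb]
      rcases hbase with q | q | q | q <;> rw [q]
      · exact Or.inl hmd
      · exact Or.inr (Or.inl (sp a))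
      · exact Or.inr (Or.inr (Or.inl (sp b)))
      · exact Or.inr (Or.inr (Or.inr (by rw [sp]; group)))

/-- Every adjacent pair of conjugates of `d` is a conjugate of `d`, `d a`. -/
theorem pair_conj {t : ↥(G₀ ⊓ centralizer ({d} : Set X))} (ht : (t : X) = a)
    (h : Fi24Fus.Fus d G₀ (G₀ ⊓ centralizer ({d} : Set X)) (conjugatesOf t)) {x y : X}
    (hx : x ∈ conjugatesOf d) (hy : y ∈ nbrs (conjugatesOf d) x) :
    ∃ m : X, x = m * d * m⁻¹ ∧ y = m * (d * a) * m⁻¹ := by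
  obtain ⟨c, rfl⟩ := isConj_iff.1 (show IsConj d x from hx)
  obtain ⟨hy1, hy2, hy3⟩ := hy
  obtain ⟨v, hv, hyv⟩ : ∃ v ∈ conjugatesOf t, c⁻¹ * y * c = d * (v : X) := by
    have h1 : IsConj d (c⁻¹ * y * c) :=
      IsConj.trans hy1 (isConj_iff.2 ⟨c⁻¹, by group⟩)
    have h2 : Commute (c⁻¹ * y * c) d := by
      have := (Commute.conj_iff c⁻¹).2 hy3.symm
      rwa [inv_inv, show c⁻¹ * (c * d * c⁻¹) * c = d by group] at this
    rcases Fi24Fus.fusion h h1 h2 with e | e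
    · refine absurd ?_ hy2
      rw [← e]; group
    · exact e
  obtain ⟨k, hk⟩ := isConj_iff.1 (show IsConj t v from hv)
  have kd : (k : X) * d * (k : X)⁻¹ = d := mul_inv_eq_iff_eq_mul.2 (mem_centralizer_singleton_iff.1 k.2.2)
  have va : (v : X) = (k : X) * a * (k : X)⁻¹ := by rw [← hk, ← ht]; rfl
  refine ⟨c * (k : X), ?_, ?_⟩
  · rw [mul_inv_rev, show c * (k : X) * d * ((k : X)⁻¹ * c⁻¹) = c * ((k : X) * d * (k : X)⁻¹) * c⁻¹ by group, kd]
  · have : y = c * (d * (v : X)) * c⁻¹ := by rw [← hyv]; group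
    rw [this, va, show c * (k : X) * (d * a) * (c * (k : X))⁻¹ =
      c * (((k : X) * d * (k : X)⁻¹) * ((k : X) * a * (k : X)⁻¹)) * c⁻¹ by group, kd]

theorem exists_loc (O : OData G₀ z a b Q Ka Kb Kab) (hd : Good G₀ z a b Ka Kb Kab d)
    {t : ↥(G₀ ⊓ centralizer ({d} : Set X))} (ht : (t : X) = a)
    (h : Fi24Fus.Fus d G₀ (G₀ ⊓ centralizer ({d} : Set X)) (conjugatesOf t)) :
    Fi24Loc.Loc24 d G₀ := by
  obtain ⟨hp, -, -, hdd, -⟩ := id hd
  have hd1 : d ≠ 1 := fun e => hp.1 (e ▸ one_mem G₀)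
  have hT : Fi24Loc.Tc d G₀ d = conjugatesOf t := by
    ext u
    constructor
    · rintro ⟨hu, hne, hc⟩
      rcases Fi24Fus.fusion h hu hc.symm with e | ⟨v, hv, e⟩
      · exact absurd e hne
      · exact (Subtype.ext (mul_left_cancel e) : u = v) ▸ hv
    · intro hu
      refine ⟨Fi24Fus.conj_mul h hu, fun e => ?_, (Commute.refl d).mul_right ?_⟩
      · exact CfsgLib.Trans3.invol_ne_one (h.grp.1.1 u hu) (Subtype.ext (mul_eq_left.1 e))
      · exact (mem_centralizer_singleton_iff.1 u.2.2).symm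
  refine
    { ord := orderOf_eq_prime (by rw [pow_two, hdd]) hd1
      out := hp.1
      idx := O.idx
      grp := hT ▸ h.grp
      prim := hT ▸ h.prim
      m23 := hT ▸ h.m23
      pair := ?_ }
  intro x y g hx hy hg
  obtain ⟨m, ex, ey⟩ := pair_conj ht h hx hy
  rw [ex, ey] at hg ⊢
  have hg' : Commute (m⁻¹ * g * m) a := by
    have := (Commute.conj_iff m⁻¹).2 hg
    rwa [inv_inv, show m⁻¹ * (m * d * m⁻¹ * (m * (d * a) * m⁻¹)) * m = (d * d) * a by group, hdd,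
      one_mul] at this
  have := hp.eq_or (hp.conj O.da O.da (normal_of_index_eq_two O.idx) (mul_inv_eq_iff_eq_mul.2 hg'.eq)) O.da O.idx
  rcases this with q | q
  · left
    conv_rhs => rw [← q]
    group
  · right
    conv_rhs => rw [← q]
    group

/-- The outer points of the product of two adjacent conjugates are those two. -/
theorem pair_uniq {t : ↥(G₀ ⊓ centralizer ({d} : Set X))} (ht : (t : X) = a)
    (h : Fi24Fus.Fus d G₀ (G₀ ⊓ centralizer ({d} : Set X)) (conjugatesOf t))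
    (hl : Fi24Loc.Loc24 d G₀) (x y u v : X) (hx : x ∈ conjugatesOf d) (hy : y ∈ nbrs (conjugatesOf d) x)
    (hu : u ∈ conjugatesOf d) (hv : v ∈ nbrs (conjugatesOf d) u) (he : x * y = u * v) : u = x ∨ u = y := by
  obtain ⟨m, ex, ey⟩ := pair_conj ht h hx hy
  obtain ⟨n, eu, ev⟩ := pair_conj ht h hu hv
  obtain ⟨g, hg⟩ : ∃ g, g = n * m⁻¹ := ⟨_, rfl⟩
  have e1 : g * x * g⁻¹ = u := by rw [ex, eu, hg]; group
  have e2 : g * y * g⁻¹ = v := by rw [ey, ev, hg]; group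
  have hc : Commute g (x * y) := by
    apply mul_inv_eq_iff_eq_mul.1
    rw [show g * (x * y) * g⁻¹ = (g * x * g⁻¹) * (g * y * g⁻¹) by group, e1, e2, he]
  rcases hl.pair x y g hx hy hc with q | q
  · exact Or.inl (by rw [← e1, q])
  · exact Or.inr (by rw [← e1, q])

end CfsgLib.ClassK.FiOuter
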