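import Cfsg.Agent.Lib.ClassK.FiOuter.Fields
import Cfsg.Agent.Lib.ClassK.FiOuter.Inner
import Cfsg.Agent.Lib.ClassK.FiOuter.Core
import Cfsg.Agent.Lib.Comp.FStar
import Cfsg.Agent.Lib.Comp.Quasisimple
import Cfsg.Agent.Lib.InvChar.CommutingClosed
import Cfsg.Agent.Lib.Trans3.Fi.M24PairStructure
import Cfsg.Agent.Lib.Classical.UnitaryGen

/-!
The configuration of `OData` from the four-group and the centralisers of small involutions.
-/

set_option autoImplicit false
set_option linter.unusedSectionVars false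

namespace CfsgLib.ClassK.FiOuter

open Subgroup CfsgLib.Trans3.FiLarge CfsgLib.Trans3.FischerType.PairCode CfsgLib.Trans3.FiLarge.U6

variable {X : Type*} [Group X] [Finite X] {G₀ : Subgroup X} {z : G₀}
  {Q : Subgroup (Subgroup.centralizer ({z} : Set G₀))} [Q.Normal]

/-- What is known of the centraliser of a small involution. -/
def Small (z : G₀) (Q : Subgroup (Subgroup.centralizer ({z} : Set G₀))) : Prop :=
  ∀ t : G₀, t ∈ qg Q → orderOf t = 2 → ¬ IsConj z t →
    ∀ [((zpowers t).subgroupOf (centralizer ({t} : Set G₀))).Normal],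
      ∃ K : Subgroup (centralizer ({t} : Set G₀)), Cfsg.IsQuasisimple ↥K ∧ K.index = 2 ∧
        (∃ ht : t ∈ centralizer ({t} : Set G₀), (⟨t, ht⟩ : centralizer ({t} : Set G₀)) ∈ K) ∧
        Nonempty (↥(centralizer ({t} : Set G₀)) ⧸ (zpowers t).subgroupOf (centralizer ({t} : Set G₀)) ≃*
          MulAut Cfsg.Spor.Fi22)

theorem coe_qg {q : X} (hq : q ∈ (qg Q).map G₀.subtype) : ∃ r : G₀, r ∈ qg Q ∧ (r : X) = q := hq

variable (hidx : G₀.index = 2) (hF : Cfsg.IsOfLargeFischerTypeAt z Q)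
  (hcentral : ∃ P : Sylow 2 G₀, z ∈ (P : Subgroup G₀) ∧ ∀ x ∈ (P : Subgroup G₀), Commute x z)
  (hFX : (Cfsg.generalizedFittingSubgroup ↥(Subgroup.centralizer ({(z : X)} : Set X))).map
    (Subgroup.subtype _) = (qg Q).map G₀.subtype)

include hidx hF hcentral in
/-- `z` is centralised by an element outside `G₀`. -/
theorem exists_outer (c : Coord z Q) : ∃ g : X, g ∉ G₀ ∧ g * (z : X) = (z : X) * g := by
  obtain ⟨P, hzP, hcom⟩ := hcentral
  obtain ⟨g, hg⟩ : ∃ g : X, g ∉ G₀ := by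
    by_contra h
    push Not at h
    rw [show G₀ = ⊤ from eq_top_iff.2 fun x _ => h x, index_top] at hidx
    norm_num at hidx
  haveI := normal_of_index_eq_two hidx
  let σ : MulAut G₀ := MulAut.conjNormal g
  obtain ⟨h, hh⟩ := MulAction.exists_smul_eq G₀ (σ • P) P
  let τ : MulAut G₀ := σ.trans (MulAut.conj h)
  have hτ : ∀ x : G₀, x ∈ (P : Subgroup G₀) → τ x ∈ (P : Subgroup G₀) := fun x hx => by
    rw [← hh, Sylow.coe_subgroup_smul, Sylow.pointwise_smul_def]
    exact Subgroup.smul_mem_pointwise_smul _ _ _ (Subgroup.smul_mem_pointwise_smul _ _ _ hx)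
  have hsurj : ∀ y ∈ (P : Subgroup G₀), ∃ x ∈ (P : Subgroup G₀), τ x = y := by
    intro y hy
    obtain ⟨⟨x, hx⟩, e⟩ := (Finite.injective_iff_surjective.1
      (show Function.Injective (fun x : (P : Subgroup G₀) => (⟨τ x, hτ x x.2⟩ : (P : Subgroup G₀))) from
        fun a b e => Subtype.ext (τ.injective (congrArg Subtype.val e)))) ⟨y, hy⟩
    exact ⟨x, hx, congrArg Subtype.val e⟩
  have hcz : ∀ y ∈ (P : Subgroup G₀), Commute y (τ z) := fun y hy => by
    obtain ⟨x, hx, rfl⟩ := hsurj y hy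
    exact (hcom x hx).map τ.toMonoidHom
  have hPC : (P : Subgroup G₀) ≤ centralizer ({z} : Set G₀) := fun x hx =>
    mem_centralizer_singleton_iff.2 (hcom x hx).eq
  have hQ2 : IsPGroup 2 Q := IsPGroup.of_card (hF.1.2.2.2.1)
  have hQP : ∀ q ∈ qg Q, q ∈ (P : Subgroup G₀) := by
    rintro _ ⟨q, hq, rfl⟩
    exact CfsgLib.InvChar.ComClosed.le_sylow_of_normal hQ2 (P.subtype hPC) hq
  rcases cent_Q hF c (hcz z hzP).eq.symm (fun q hq => (hcz q (hQP q hq)).eq.symm) with e | e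
  · exact absurd (τ.map_eq_one_iff.1 e) (fun e1 => by
      have := hF.1.1
      rw [e1, orderOf_one] at this
      omega)
  · refine ⟨(h : X) * g, fun hc => hg ?_, ?_⟩
    · simpa using mul_mem (inv_mem h.2) hc
    · have e' := congrArg (Subtype.val) e
      simp only [τ, MulEquiv.trans_apply, σ, MulAut.conj_apply, Subgroup.coe_mul, Subgroup.coe_inv,
        MulAut.conjNormal_apply] at e'
      apply mul_inv_eq_iff_eq_mul.1
      rw [show (h : X) * g * z * ((h : X) * g)⁻¹ = (h : X) * (g * z * g⁻¹) * (h : X)⁻¹ by group, e']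

include hidx hF hFX hcentral in
/-- A small involution is centralised by an element outside `G₀` that commutes with `z`. -/
theorem exists_outer_small (c : Coord z Q) {x : G₀} (hx : x ∈ qg Q) (x2 : orderOf x = 2)
    (hxz : ¬ IsConj z x) : ∃ g : X, g ∉ G₀ ∧ g * (x : X) = (x : X) * g := by
  obtain ⟨g, hg, hgz⟩ := exists_outer hidx hF hcentral c
  haveI := normal_of_index_eq_two hidx
  haveI := CfsgLib.Comp.generalizedFittingSubgroup_normal ↥(Subgroup.centralizer ({(z : X)} : Set X))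
  let σ : MulAut G₀ := MulAut.conjNormal g
  have hσz : σ z = z := Subtype.ext (by
    simp only [σ, MulAut.conjNormal_apply]
    exact mul_inv_eq_iff_eq_mul.2 hgz)
  have hσx : σ x ∈ qg Q := by
    have h1 : (x : X) ∈ (qg Q).map G₀.subtype := ⟨x, hx, rfl⟩
    rw [← hFX] at h1
    obtain ⟨u, hu, e⟩ := h1
    have h2 : g * (x : X) * g⁻¹ ∈ (qg Q).map G₀.subtype := by
      rw [← hFX]
      refine ⟨_, Subgroup.Normal.conj_mem inferInstance u hu
        ⟨g, mem_centralizer_singleton_iff.2 hgz⟩, ?_⟩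
      rw [← e]
      rfl
    obtain ⟨r, hr, e'⟩ := coe_qg h2
    rwa [show σ x = r from Subtype.ext (by simp only [σ, MulAut.conjNormal_apply]; exact e'.symm)]
  obtain ⟨m, -, hm⟩ := small_conj hF c hσx hx (by rw [MulEquiv.orderOf_eq, x2]) x2
    (fun h => hxz (by
      have := σ.symm.toMonoidHom.map_isConj h
      simpa [show σ.symm z = z from σ.injective (by rw [σ.apply_symm_apply, hσz])] using this)) hxz
  refine ⟨(m : X) * g, fun hc => hg ?_, ?_⟩
  · simpa using mul_mem (inv_mem m.2) hc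
  · have e' := congrArg (Subtype.val) hm
    simp only [σ, Subgroup.coe_mul, Subgroup.coe_inv, MulAut.conjNormal_apply] at e'
    apply mul_inv_eq_iff_eq_mul.1
    rw [show (m : X) * g * x * ((m : X) * g)⁻¹ = (m : X) * (g * x * g⁻¹) * (m : X)⁻¹ by group, e']

include hidx hF hFX hcentral in
/-- The data at one small involution. -/
theorem exists_kdata (c : Coord z Q) (hS : Small z Q) {x : G₀} (hx : x ∈ qg Q) (x2 : orderOf x = 2)
    (hxz : ¬ IsConj z x) : ∃ K : Subgroup X, KData G₀ (x : X) K ∧ Cfsg.IsQuasisimple ↥K := by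
  haveI hn : ((zpowers x).subgroupOf (centralizer ({x} : Set G₀))).Normal :=
    ⟨fun n hn g => by
      have h : (n : G₀) * g = g * n := by
        obtain ⟨k, hk⟩ := mem_subgroupOf.1 hn
        rw [← hk]
        exact (Commute.zpow_left (mem_centralizer_singleton_iff.1 g.2).symm k).eq
      have e : g * n * g⁻¹ = n := Subtype.ext (by simp [← h])
      rwa [e]⟩
  obtain ⟨K, hq, hi, ⟨hxc, hxK⟩, ⟨e⟩⟩ := hS x hx x2 hxz
  let j : centralizer ({x} : Set G₀) →* X := G₀.subtype.comp (centralizer ({x} : Set G₀)).subtype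
  have hj : Function.Injective j := fun a b h => Subtype.ext (Subtype.ext h)
  let K' := K.map j
  have hle : K' ≤ Cg G₀ (x : X) := by
    rintro _ ⟨k, -, rfl⟩
    exact mem_Cg.2 ⟨(k : G₀).2, congrArg Subtype.val (mem_centralizer_singleton_iff.1 k.2)⟩
  let ι : Cg G₀ (x : X) ≃* centralizer ({x} : Set G₀) :=
    { toFun := fun g => ⟨⟨g, (mem_Cg.1 g.2).1⟩, mem_centralizer_singleton_iff.2 (Subtype.ext (mem_Cg.1 g.2).2)⟩
      invFun := fun g => ⟨(g : G₀), mem_Cg.2 ⟨(g : G₀).2,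
        congrArg Subtype.val (mem_centralizer_singleton_iff.1 g.2)⟩⟩
      left_inv := fun _ => rfl
      right_inv := fun _ => rfl
      map_mul' := fun _ _ => rfl }
  have hperf : ⁅K', K'⁆ = K' := by
    have h1 : ⁅K, K⁆ = K := by
      have := congrArg (Subgroup.map K.subtype) hq.1.commutator_eq_top
      rwa [commutator_def, map_commutator, ← MonoidHom.range_eq_map, range_subtype] at this
    rw [← map_commutator, h1]
  have hidx' : (K'.subgroupOf (Cg G₀ (x : X))).index = 2 := by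
    rw [show K'.subgroupOf (Cg G₀ (x : X)) = K.comap ι.toMonoidHom by
      ext g
      rw [mem_subgroupOf, mem_comap]
      constructor
      · rintro ⟨k, hk, e⟩
        rwa [show ι.toMonoidHom g = k from Subtype.ext (Subtype.ext e.symm)]
      · exact fun h => ⟨_, h, rfl⟩]
    rw [index_comap_of_surjective _ ι.surjective, hi]
  have hx2 : x * x = 1 := by rw [← pow_two, ← x2, pow_orderOf_eq_one]
  let φ := e.toMonoidHom.comp ((QuotientGroup.mk' _).comp ι.toMonoidHom)
  haveI : Finite Cfsg.Spor.Fi22 := CfsgLib.InvChar.SporFi22.card_le.1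
  haveI := CfsgLib.InvChar.SporFi22.isSimpleGroup
  have hS22 : ∃ s t : Cfsg.Spor.Fi22, s * t ≠ t * s := by
    by_contra h
    push Not at h
    letI : CommGroup Cfsg.Spor.Fi22 := { (inferInstance : Group Cfsg.Spor.Fi22) with mul_comm := h }
    have h1 := IsSimpleGroup.prime_card (α := Cfsg.Spor.Fi22)
    rw [CfsgLib.InvChar.SporFi22.card_eq.1] at h1
    norm_num at h1
  refine ⟨K', kdata hS22 CfsgLib.Trans3.Fi.card_mulAut_fi22 hidx hle hperf hidx' ⟨⟨x, hxc⟩, hxK, rfl⟩
    φ (e.surjective.comp ((QuotientGroup.mk'_surjective _).comp ι.surjective)) (fun g => ?_)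
    (exists_outer_small hidx hF hcentral hFX c hx x2 hxz),
    CfsgLib.Comp.isQuasisimple_congr (K.equivMapOfInjective j hj) hq⟩
  show e (QuotientGroup.mk (ι g)) = 1 ↔ _
  rw [map_eq_one_iff e e.injective, QuotientGroup.eq_one_iff, mem_subgroupOf]
  constructor
  · rintro ⟨n, hn⟩
    have h2 : x ^ (2 : ℤ) = 1 := by rw [show (2 : ℤ) = 1 + 1 from rfl, zpow_add, zpow_one, hx2]
    simp only at hn
    rcases Int.even_or_odd n with ⟨m, rfl⟩ | ⟨m, rfl⟩
    · left
      rw [← two_mul, zpow_mul, h2, one_zpow] at hn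
      exact (congrArg Subtype.val hn).symm
    · right
      rw [zpow_add, zpow_mul, h2, one_zpow, one_mul, zpow_one] at hn
      exact (congrArg Subtype.val hn).symm
  · rintro (h | h)
    · rw [show ((ι g : centralizer ({x} : Set G₀)) : G₀) = 1 from Subtype.ext h]; exact one_mem _
    · rw [show ((ι g : centralizer ({x} : Set G₀)) : G₀) = x from Subtype.ext h]; exact mem_zpowers _

include hidx hF hFX hcentral in
/-- The configuration. -/
theorem exists_data (C : Ctx z Q) (hA : C.AFacts) (hqL : Cfsg.IsQuasisimple C.CE)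
    (hiso : ∃ (F : Type) (_ : Field F) (_ : Fintype F), Fintype.card F = 4 ∧ Nonempty (C.Y ≃* Cfsg.PSU 6 F 2))
    (hS : Small z Q) :
    ∃ (Ka Kb Kab : Subgroup X) (F : Type) (_ : Field F) (_ : Fintype F),
      OData G₀ (z : X) (C.a : X) (C.b : X) ((qg Q).map G₀.subtype) Ka Kb Kab ∧ Cfsg.IsQuasisimple ↥Ka ∧
      Cfsg.IsQuasisimple ↥(CL G₀ (C.a : X) (C.b : X)) ∧ Fintype.card F = 4 ∧
      (∃ g ∈ G₀, g * (C.a : X) * g⁻¹ = C.a * C.b) ∧
      ∃ f : CL G₀ (C.a : X) (C.b : X) →* Cfsg.PSU 6 F 2, Function.Surjective f ∧ ∀ l, f l = 1 ↔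
        (l : X) = 1 ∨ (l : X) = C.a ∨ (l : X) = C.b ∨ (l : X) = C.a * C.b := by
  obtain ⟨F, i1, i2, hF4, ⟨e6⟩⟩ := hiso
  have haE : C.a ∈ C.E := subset_closure (Or.inl rfl)
  have hbE : C.b ∈ C.E := subset_closure (Or.inr rfl)
  have hv := (CfsgLib.Trans3.FiLarge.isotropic_of_orbit (Or.inl C.a_small)).1
  have hvb : prG C.c C.b ≠ prG C.c C.a := fun h => by
    rw [C.b_eq] at h
    have h2 : (om - 1) • prG C.c C.a = 0 := by rw [sub_smul, one_smul, h, sub_self]
    rcases smul_eq_zero.1 h2 with h3 | h3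
    · exact absurd (sub_eq_zero.1 h3) (by decide)
    · exact hv h3
  have a1 : C.a ≠ 1 := fun h => hv (by rw [h, prG_one])
  have b1 : C.b ≠ 1 := fun h => by
    have := C.b_eq
    rw [h, prG_one] at this
    rcases smul_eq_zero.1 this.symm with h3 | h3
    · exact absurd h3 (by decide)
    · exact hv h3
  have hab : C.a ≠ C.b := fun h => hvb (by rw [h])
  have sq : ∀ e ∈ C.E, e * e = 1 := fun e he => by rw [← pow_two]; exact hA.E_elem.2 e he
  have habc : C.a * C.b = C.b * C.a :=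
    congrArg Subtype.val (hA.E_elem.1.is_comm.comm ⟨C.a, haE⟩ ⟨C.b, hbE⟩)
  have ab1 : C.a * C.b ≠ 1 := fun h => hab (by
    rw [← inv_eq_of_mul_eq_one_right h, inv_eq_of_mul_eq_one_right (sq _ haE)])
  have hsmall : ∀ e ∈ C.E, e ≠ 1 → e ∈ qg Q ∧ orderOf e = 2 ∧ ¬ IsConj z e := fun e he h1 =>
    ⟨(hA.E_small e he h1).1, orderOf_eq_prime (hA.E_elem.2 e he) h1, (hA.E_small e he h1).2.1⟩
  obtain ⟨qa, oa, za⟩ := hsmall _ haE a1
  obtain ⟨qb, ob, zb⟩ := hsmall _ hbE b1
  obtain ⟨qab, oab, zab⟩ := hsmall _ (mul_mem haE hbE) ab1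
  obtain ⟨Ka, Da, hqa⟩ := exists_kdata hidx hF hcentral hFX C.c hS qa oa za
  obtain ⟨Kb, Db, -⟩ := exists_kdata hidx hF hcentral hFX C.c hS qb ob zb
  obtain ⟨Kab, Dab, -⟩ := exists_kdata hidx hF hcentral hFX C.c hS qab oab zab
  have hE : ∀ e : G₀, e ∈ C.E ↔ e = 1 ∨ e = C.a ∨ e = C.b ∨ e = C.a * C.b := by
    intro e
    constructor
    · intro he
      refine closure_induction (p := fun x _ => x = 1 ∨ x = C.a ∨ x = C.b ∨ x = C.a * C.b) ?_ (Or.inl rfl)
        (fun x y _ _ hx hy => ?_) (fun x _ hx => ?_) he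
      · rintro x (rfl | rfl)
        exacts [Or.inr (Or.inl rfl), Or.inr (Or.inr (Or.inl rfl))]
      · have e1 : C.a * (C.a * C.b) = C.b := by rw [← mul_assoc, sq _ haE, one_mul]
        have e2 : C.b * (C.a * C.b) = C.a := by rw [habc, ← mul_assoc, sq _ hbE, one_mul]
        have e3 : C.a * C.b * C.a = C.b := by rw [habc, mul_assoc, sq _ haE, mul_one]
        have e4 : C.a * C.b * C.b = C.a := by rw [mul_assoc, sq _ hbE, mul_one]
        rcases hx with rfl | rfl | rfl | rfl <;> rcases hy with rfl | rfl | rfl | rfl <;>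
          simp [sq _ haE, sq _ hbE, sq _ (mul_mem haE hbE), e1, e2, e3, e4, ← habc]
      · have hi : ∀ y ∈ C.E, y⁻¹ = y := fun y hy => inv_eq_of_mul_eq_one_right (sq y hy)
        rcases hx with rfl | rfl | rfl | rfl
        · exact Or.inl inv_one
        · exact Or.inr (Or.inl (hi _ haE))
        · exact Or.inr (Or.inr (Or.inl (hi _ hbE)))
        · exact Or.inr (Or.inr (Or.inr (hi _ (mul_mem haE hbE))))
    · rintro (rfl | rfl | rfl | rfl)
      exacts [one_mem _, haE, hbE, mul_mem haE hbE]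
  have memCE : ∀ g : G₀, g ∈ C.CE ↔ g * C.a = C.a * g ∧ g * C.b = C.b * g := fun g => by
    rw [mem_centralizer_iff]
    refine ⟨fun h => ⟨(h _ haE).symm, (h _ hbE).symm⟩, fun h e he => ?_⟩
    rcases (hE e).1 he with rfl | rfl | rfl | rfl
    · rw [one_mul, mul_one]
    · exact h.1.symm
    · exact h.2.symm
    · exact (Commute.mul_right h.1 h.2).eq.symm
  let ι : C.CE ≃* CL G₀ (C.a : X) (C.b : X) :=
    { toFun := fun g => ⟨(g : G₀), mem_Cg.2 ⟨(g : G₀).2, congrArg Subtype.val ((memCE g).1 g.2).1⟩,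
        mem_Cg.2 ⟨(g : G₀).2, congrArg Subtype.val ((memCE g).1 g.2).2⟩⟩
      invFun := fun g => ⟨⟨g, (mem_Cg.1 g.2.1).1⟩, (memCE _).2 ⟨Subtype.ext (mem_Cg.1 g.2.1).2,
        Subtype.ext (mem_Cg.1 g.2.2).2⟩⟩
      left_inv := fun _ => rfl
      right_inv := fun _ => rfl
      map_mul' := fun _ _ => rfl }
  have hqCL := CfsgLib.Comp.isQuasisimple_congr ι hqL
  let f := (e6.toMonoidHom.comp (QuotientGroup.mk' C.EC)).comp ι.symm.toMonoidHom
  have hfs : Function.Surjective f :=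
    (e6.surjective.comp (QuotientGroup.mk'_surjective _)).comp ι.symm.surjective
  have hfk : ∀ l, f l = 1 ↔ (l : X) = 1 ∨ (l : X) = C.a ∨ (l : X) = C.b ∨ (l : X) = C.a * C.b := fun l => by
    show e6 (QuotientGroup.mk (ι.symm l)) = 1 ↔ _
    rw [map_eq_one_iff e6 e6.injective, QuotientGroup.eq_one_iff, mem_subgroupOf, hE]
    simp only [Subtype.ext_iff]
    rfl
  have hperf : ⁅CL G₀ (C.a : X) (C.b : X), CL G₀ (C.a : X) (C.b : X)⁆ = CL G₀ (C.a : X) (C.b : X) := by
    have := congrArg (Subgroup.map (CL G₀ (C.a : X) (C.b : X)).subtype) hqCL.1.commutator_eq_top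
    rwa [commutator_def, map_commutator, ← MonoidHom.range_eq_map, range_subtype] at this
  have hcent : ∀ g ∈ G₀, (∀ l ∈ CL G₀ (C.a : X) (C.b : X), g * l = l * g) →
      g = 1 ∨ g = C.a ∨ g = C.b ∨ g = C.a * C.b := by
    intro g hg hc
    have hgL : g ∈ CL G₀ (C.a : X) (C.b : X) :=
      ⟨mem_Cg.2 ⟨hg, hc _ (ι ⟨C.a, (memCE _).2 ⟨rfl, habc⟩⟩).2⟩,
        mem_Cg.2 ⟨hg, hc _ (ι ⟨C.b, (memCE _).2 ⟨habc.symm, rfl⟩⟩).2⟩⟩
    refine (hfk ⟨g, hgL⟩).1 ?_
    haveI : IsSimpleGroup (Cfsg.PSU 6 F 2) :=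
      CfsgLib.Classical.isSimpleGroup_psu (q := 2) hF4 (by norm_num) (by norm_num)
    have hz : f ⟨g, hgL⟩ ∈ center (Cfsg.PSU 6 F 2) := mem_center_iff.2 fun y => by
      obtain ⟨l, rfl⟩ := hfs y
      rw [← map_mul, ← map_mul]
      exact congrArg f (Subtype.ext (hc l l.2).symm)
    rcases Subgroup.Normal.eq_bot_or_eq_top (H := center (Cfsg.PSU 6 F 2)) inferInstance with h | h
    · rwa [h, mem_bot] at hz
    · exfalso
      haveI := hqCL.1
      haveI : Group.IsPerfect (Cfsg.PSU 6 F 2) := Group.IsPerfect.ofSurjective hfs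
      exact Group.IsPerfect.not_isMulCommutative (Cfsg.PSU 6 F 2)
        ⟨⟨fun x y => (mem_center_iff.1 (h ▸ mem_top y : y ∈ center _) x)⟩⟩
  obtain ⟨⟨ra, hra, ra1, ra2⟩, ⟨rb, hrb, rb1, rb2⟩⟩ := exists_movers C.c C.a_mem C.b_mem hv C.b_eq
  have hz2 : z * z = 1 := by rw [← pow_two, ← hF.1.1, pow_orderOf_eq_one]
  have cz : ∀ e ∈ C.E, e ≠ 1 → z * e = e * z := fun e he h1 =>
    (mem_centralizer_singleton_iff.1 (qg_le (hsmall e he h1).1)).symm
  obtain ⟨s, sz, s1, s2⟩ := exists_swap hF C.c C.semi hz2 C.a_mem C.b_mem C.a_small C.b_eq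
  obtain ⟨m, -, hm⟩ := small_conj hF C.c qa qb oa ob za zb
  have cX : ∀ {x y : G₀}, x = y → (x : X) = (y : X) := fun h => congrArg Subtype.val h
  obtain ⟨m', -, hm'⟩ := small_conj hF C.c qa qab oa oab za zab
  refine ⟨Ka, Kb, Kab, F, i1, i2, ?_, hqa, hqCL, hF4, ⟨m', m'.2, cX hm'⟩, f, hfs, hfk⟩
  exact
    { idx := hidx
      z_mem := z.2
      a_mem := C.a.2
      b_mem := C.b.2
      a_sq := cX (sq _ haE)
      b_sq := cX (sq _ hbE)
      z_sq := cX hz2
      a_ne := fun h => a1 (Subtype.ext h)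
      b_ne := fun h => b1 (Subtype.ext h)
      ab_ne := fun h => hab (Subtype.ext h)
      comm := cX habc
      za := cX (cz _ haE a1)
      zb := cX (cz _ hbE b1)
      z_ne := by
        have h : ∀ e ∈ C.E, (z : X) ≠ (e : X) := fun e he h => hA.z_notMem (Subtype.ext h ▸ he)
        exact ⟨h 1 (one_mem _), h _ haE, h _ hbE, h _ (mul_mem haE hbE)⟩
      Q_le := fun q hq => by
        obtain ⟨r, hr, rfl⟩ := coe_qg hq
        exact ⟨r.2, cX (mem_centralizer_singleton_iff.1 (qg_le hr))⟩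
      act_a := fun q hq => by
        obtain ⟨r, hr, rfl⟩ := coe_qg hq
        exact (act_Q C.c hr qa).imp (fun h => cX h) fun h => cX h
      act_b := fun q hq => by
        obtain ⟨r, hr, rfl⟩ := coe_qg hq
        exact (act_Q C.c hr qb).imp (fun h => cX h) fun h => cX h
      ex_a := ⟨ra, ⟨ra, hra, rfl⟩, cX ra1, cX ra2⟩
      ex_b := ⟨rb, ⟨rb, hrb, rfl⟩, cX rb1, cX rb2⟩
      noQ := fun g hg hgz hc => hg (by
        have h1 : (⟨g, mem_centralizer_singleton_iff.2 hgz⟩ : centralizer ({(z : X)} : Set X)) ∈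
            centralizer (Cfsg.generalizedFittingSubgroup ↥(centralizer ({(z : X)} : Set X)) : Set _) :=
          mem_centralizer_iff.2 fun u hu => Subtype.ext (hc u (hFX ▸ ⟨u, hu, rfl⟩)).symm
        have h2 : g ∈ (Cfsg.generalizedFittingSubgroup ↥(centralizer ({(z : X)} : Set X))).map
            (Subgroup.subtype _) := ⟨_, CfsgLib.Comp.centralizer_generalizedFitting_le _ h1, rfl⟩
        rw [hFX] at h2
        obtain ⟨r, -, rfl⟩ := coe_qg h2
        exact r.2)
      perfect := hperf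
      cent := hcent
      da := Da
      db := Db
      dab := by simpa using Dab
      conj := ⟨m, m.2, cX hm⟩
      swap := ⟨s, s.2, cX sz, cX s1, cX s2⟩ }

end CfsgLib.ClassK.FiOuter
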