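import Cfsg.Agent.Lib.ClassK.FiOuter.Quot
import Cfsg.Agent.Lib.ClassK.FiOuter.Setup

/-!
The outer involution centralised by a subgroup of type `M(23)`, from the four-group and small involutions.
-/

set_option autoImplicit false

namespace CfsgLib.ClassK.FiOuter

open Subgroup CfsgLib.Trans3.FiLarge.U6 CfsgLib.Trans3.FischerType.PairCode

theorem outer_involution {X : Type*} [Group X] [Finite X] {G₀ : Subgroup X} (hidx : G₀.index = 2) {z : G₀}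
    {Q : Subgroup (Subgroup.centralizer ({z} : Set G₀))} [Q.Normal] (hF : Cfsg.IsOfLargeFischerTypeAt z Q)
    (hcentral : ∃ P : Sylow 2 G₀, z ∈ (P : Subgroup G₀) ∧ ∀ x ∈ (P : Subgroup G₀), Commute x z)
    (hFX : (Cfsg.generalizedFittingSubgroup ↥(Subgroup.centralizer ({(z : X)} : Set X))).map
      (Subgroup.subtype _) = (qg Q).map G₀.subtype)
    (C : Ctx z Q) (hA : C.AFacts) (hqL : Cfsg.IsQuasisimple C.CE)
    (hiso : ∃ (F : Type) (_ : Field F) (_ : Fintype F), Fintype.card F = 4 ∧ Nonempty (C.Y ≃* Cfsg.PSU 6 F 2))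
    (hS : Small z Q) :
    ∃ d : X, orderOf d = 2 ∧ d ∉ G₀ ∧ Commute d (z : X) ∧ ∃ t : ↥(G₀ ⊓ Subgroup.centralizer ({d} : Set X)), orderOf t = 2 ∧ Cfsg.IsQuasisimple ↥(Subgroup.centralizer ({t} : Set ↥(G₀ ⊓ Subgroup.centralizer ({d} : Set X)))) ∧ (∃ (_ : ((Subgroup.zpowers t).subgroupOf (Subgroup.centralizer ({t} : Set ↥(G₀ ⊓ Subgroup.centralizer ({d} : Set X))))).Normal), (∃ E : Set (↥(Subgroup.centralizer ({t} : Set ↥(G₀ ⊓ Subgroup.centralizer ({d} : Set X)))) ⧸ (Subgroup.zpowers t).subgroupOf (Subgroup.centralizer ({t} : Set ↥(G₀ ⊓ Subgroup.centralizer ({d} : Set X))))), Cfsg.IsThreeTranspositionClass E ∧ Cfsg.IsOfTypeM22 _ E) ∧ ∃ d' : ↥(Subgroup.centralizer ({t} : Set ↥(G₀ ⊓ Subgroup.centralizer ({d} : Set X)))) ⧸ (Subgroup.zpowers t).subgroupOf (Subgroup.centralizer ({t} : Set ↥(G₀ ⊓ Subgroup.centralizer ({d} : Set X)))), orderOf d' = 2 ∧ Cfsg.IsQuasisimple ↥(Subgroup.centralizer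 ({d'} : Set _)) ∧ (∃ (K : Type) (_ : Field K) (_ : Fintype K), Fintype.card K = 4 ∧ ∃ _ : ((Subgroup.zpowers d').subgroupOf (Subgroup.centralizer ({d'} : Set _))).Normal, Nonempty (↥(Subgroup.centralizer ({d'} : Set _)) ⧸ (Subgroup.zpowers d').subgroupOf (Subgroup.centralizer ({d'} : Set _)) ≃* Cfsg.PSU 6 K 2)) ∧ ∃ g, g * d' * g⁻¹ ∈ Subgroup.centralizer ({d'} : Set _) ∧ g * d' * g⁻¹ ≠ d') ∧ (∃ g : ↥(G₀ ⊓ Subgroup.centralizer ({d} : Set X)), g * t * g⁻¹ ∈ Subgroup.centralizer ({t} : Set ↥(G₀ ⊓ Subgroup.centralizer ({d} : Set X))) ∧ g * t * g⁻¹ ≠ t) ∧ Cfsg.IsThreeTranspositionClass (conjugatesOf t) ∧ Cfsg.IsOfTypeM23 ↥(G₀ ⊓ Subgroup.centralizer ({d} : Set X)) (conjugatesOf t) := by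
  obtain ⟨Ka, Kb, Kab, F, i1, i2, O, hqa, hqCL, hF4, -, f, hfs, hfk⟩ :=
    exists_data hidx hF hcentral hFX C hA hqL hiso hS
  exact conclusion O hqa hqCL F hF4 f hfs hfk

end CfsgLib.ClassK.FiOuter
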