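import Cfsg.Agent.Lib.ClassK.FiOuter.Setup
import Cfsg.Agent.Lib.ClassK.FiOuter.Loc

/-!
The facts about `z` and `Q` used to close the class of the outer involution.
-/

set_option autoImplicit false
set_option linter.unusedSectionVars false

namespace CfsgLib.ClassK.FiOuter

open Subgroup CfsgLib.Trans3 CfsgLib.Trans3.Fi CfsgLib.Trans3.FiLarge CfsgLib.Trans3.FischerType.PairCode CfsgLib.Trans3.FiLarge.U6

variable {X : Type*} [Group X] [Finite X] {G₀ : Subgroup X} {z : G₀}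
  {Q : Subgroup (Subgroup.centralizer ({z} : Set G₀))} [Q.Normal]

theorem qg_conj (hFX : (Cfsg.generalizedFittingSubgroup ↥(Subgroup.centralizer ({(z : X)} : Set X))).map
      (Subgroup.subtype _) = (qg Q).map G₀.subtype) (g : X) (hg : Commute g (z : X)) (q : X)
    (hq : q ∈ (qg Q).map G₀.subtype) : g * q * g⁻¹ ∈ (qg Q).map G₀.subtype := by
  haveI := CfsgLib.Comp.generalizedFittingSubgroup_normal ↥(Subgroup.centralizer ({(z : X)} : Set X))
  rw [← hFX] at hq ⊢
  obtain ⟨u, hu, rfl⟩ := hq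
  exact ⟨_, Subgroup.Normal.conj_mem inferInstance u hu ⟨g, mem_centralizer_singleton_iff.2 hg.eq⟩, rfl⟩

theorem qg_sq (c : Coord z Q) (q : X) (hq : q ∈ (qg Q).map G₀.subtype) :
    q * q = 1 ∨ q * q = (z : X) := by
  obtain ⟨r, hr, rfl⟩ := coe_qg hq
  have h : prG c (r * r) = 0 := by rw [prG_mul c hr hr, pf_self]
  exact ((prG_eq_zero c (mul_mem hr hr)).1 h).imp (fun e => congrArg Subtype.val e)
    (fun e => congrArg Subtype.val e)

/-- With an outer element fixing `z`, conjugacy to `z` in the whole group is conjugacy in `G₀`. -/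
theorem conj_in {d : X} (hidx : G₀.index = 2) (hd : d ∉ G₀) (hdz : d * (z : X) = (z : X) * d) {t : G₀}
    (h : IsConj (z : X) (t : X)) : IsConj z t := by
  obtain ⟨g, hg⟩ := isConj_iff.1 h
  by_cases hg0 : g ∈ G₀
  · exact isConj_iff.2 ⟨⟨g, hg0⟩, Subtype.ext hg⟩
  · refine isConj_iff.2 ⟨⟨g * d, (mul_mem_iff_of_index_two hidx).2 (iff_of_false hg0 hd)⟩, Subtype.ext ?_⟩
    show g * d * (z : X) * (g * d)⁻¹ = t
    rw [show g * d * (z : X) * (g * d)⁻¹ = g * (d * z * d⁻¹) * g⁻¹ by group,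
      mul_inv_eq_iff_eq_mul.2 hdz, hg]

variable {d a : X} {t : ↥(G₀ ⊓ centralizer ({d} : Set X))}

/-- A transposition of the centraliser of `d` is not conjugate to `z`. -/
theorem trans_not_conj (hidx : G₀.index = 2) (hd : d ∉ G₀) (hdz : d * (z : X) = (z : X) * d) {a₀ : G₀}
    (haz : ¬ IsConj z a₀) (ht : (t : X) = a₀) {v : ↥(G₀ ⊓ centralizer ({d} : Set X))}
    (hv : v ∈ conjugatesOf t) : ¬ IsConj (z : X) (v : X) := fun h => haz <| conj_in hidx hd hdz <| by
  rw [← ht]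
  exact h.trans ((G₀ ⊓ centralizer ({d} : Set X)).subtype.map_isConj (show IsConj t v from hv)).symm

/-- `d z` is no conjugate of `d`, and `z` is no product of adjacent conjugates with `d`. -/
theorem z_facts (hidx : G₀.index = 2) {a₀ : G₀} (haz : ¬ IsConj z a₀) (hz2 : z * z = 1) (hz1 : z ≠ 1)
    (hd : d ∉ G₀) (hdz : d * (z : X) = (z : X) * d) (ht : (t : X) = a₀)
    (h : Fi24Fus.Fus d G₀ (G₀ ⊓ centralizer ({d} : Set X)) (conjugatesOf t)) :
    d * (z : X) ∉ conjugatesOf d ∧ ∀ b ∈ nbrs (conjugatesOf d) d, ¬ IsConj (z : X) (d * b) := by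
  have key : ∀ x, IsConj d x → Commute x d → x ≠ d → ¬ IsConj (z : X) (d * x) := fun x hx hc hne => by
    rcases Fi24Fus.fusion h hx hc with e | ⟨v, hv, rfl⟩
    · exact absurd e hne
    · rw [← mul_assoc, h.dd, one_mul]
      exact trans_not_conj hidx hd hdz haz ht hv
  refine ⟨fun hm => ?_, fun b hb => key b hb.1 hb.2.2.symm hb.2.1⟩
  refine key _ hm (Commute.mul_left (Commute.refl d) (Commute.symm hdz)) (fun e => hz1 (Subtype.ext ?_)) ?_
  · exact mul_eq_left.1 e
  · rw [← mul_assoc, h.dd, one_mul]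

end CfsgLib.ClassK.FiOuter
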