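import Cfsg.Agent.Lib.ClassK.FiOuter.Main
import Cfsg.Agent.Lib.ClassK.FiOuter.ZFacts

/-!
Everything the closing step of type M(24) needs at the outer involution.
-/

set_option autoImplicit false
set_option linter.unusedSectionVars false

namespace CfsgLib.ClassK.FiOuter

open Subgroup CfsgLib.Trans3 CfsgLib.Trans3.Fi CfsgLib.Trans3.FiLarge CfsgLib.Trans3.FiLarge.U6
open CfsgLib.Trans3.FischerType.PairCode

variable {X : Type*} [Group X] [Finite X] {G₀ : Subgroup X} {z : G₀}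
  {Q : Subgroup (Subgroup.centralizer ({z} : Set G₀))} [Q.Normal]

theorem exists_outer_data (hidx : G₀.index = 2) (hF : Cfsg.IsOfLargeFischerTypeAt z Q)
    (hcentral : ∃ P : Sylow 2 G₀, z ∈ (P : Subgroup G₀) ∧ ∀ x ∈ (P : Subgroup G₀), Commute x z)
    (hFX : (Cfsg.generalizedFittingSubgroup ↥(Subgroup.centralizer ({(z : X)} : Set X))).map
      (Subgroup.subtype _) = (qg Q).map G₀.subtype)
    (C : Ctx z Q) (hA : C.AFacts) (hqL : Cfsg.IsQuasisimple C.CE)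
    (hiso : ∃ (F : Type) (_ : Field F) (_ : Fintype F), Fintype.card F = 4 ∧ Nonempty (C.Y ≃* Cfsg.PSU 6 F 2))
    (hS : Small z Q) :
    ∃ d : X, Fi24Loc.Loc24 d G₀ ∧
      (∀ x y u v : X, x ∈ conjugatesOf d → y ∈ nbrs (conjugatesOf d) x → u ∈ conjugatesOf d →
        v ∈ nbrs (conjugatesOf d) u → x * y = u * v → u = x ∨ u = y) ∧
      (z : X) ≠ 1 ∧ (z : X) * z = 1 ∧ Commute (z : X) d ∧ d * (z : X) ∉ conjugatesOf d ∧
      (∀ b ∈ nbrs (conjugatesOf d) d, ¬ IsConj (z : X) (d * b)) ∧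
      (qg Q).map G₀.subtype ≤ G₀ ∧
      (∀ g, Commute g (z : X) → ∀ q ∈ (qg Q).map G₀.subtype, g * q * g⁻¹ ∈ (qg Q).map G₀.subtype) ∧
      (∀ q ∈ (qg Q).map G₀.subtype, q * q = 1 ∨ q * q = (z : X)) ∧
      ∃ q ∈ (qg Q).map G₀.subtype, q * q = 1 ∧ q ≠ 1 ∧ Commute q d ∧ ¬ IsConj (z : X) q := by
  obtain ⟨Ka, Kb, Kab, F, i1, i2, O, hqa, hqCL, hF4, hab, f, hfs, hfk⟩ :=
    exists_data hidx hF hcentral hFX C hA hqL hiso hS
  obtain ⟨d, hd, ⟨t, ht, hcl, hm, hprim⟩, -⟩ := conclusion_good O hqa hqCL F hF4 f hfs hfk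
  have hfus := exists_fus O hd hab ht hcl hm hprim
  have hloc := exists_loc O hd ht hfus
  have hd0 : d ∉ G₀ := hd.1.1
  have hdz : d * (z : X) = (z : X) * d := hd.2.2.2.2
  have haE : C.a ∈ C.E := subset_closure (Or.inl rfl)
  have ha1 : C.a ≠ 1 := fun h => O.a_ne (congrArg Subtype.val h)
  obtain ⟨haQ, haz, -⟩ := hA.E_small _ haE ha1
  have hz1 : z ≠ 1 := fun h => O.z_ne.1 (congrArg Subtype.val h)
  obtain ⟨h1, h2⟩ := z_facts hidx haz (Subtype.ext O.z_sq) hz1 hd0 hdz ht hfus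
  refine ⟨d, hloc, fun x y u v => pair_uniq ht hfus hloc x y u v, O.z_ne.1, O.z_sq, hdz.symm, h1, h2, ?_,
    fun g hg q hq => qg_conj hFX g hg q hq, qg_sq C.c, ?_⟩
  · rintro _ ⟨r, -, rfl⟩
    exact r.2
  · exact ⟨(C.a : X), ⟨C.a, haQ, rfl⟩, O.a_sq, O.a_ne, hd.1.2.1.symm, fun h => haz (conj_in hidx hd0 hdz h)⟩

end CfsgLib.ClassK.FiOuter
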