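import Cfsg.Agent.Lib.ClassK.FiOuter.Core
import Cfsg.Agent.Lib.Comp.Quasisimple
import Cfsg.Agent.S5377
import Cfsg.Agent.Lib.InvChar.Fi23Inv.Main

/-!
The centraliser of the outer involution is of type `M(23)`.
-/

set_option autoImplicit false

namespace CfsgLib.ClassK.FiOuter

open Subgroup Cfsg

variable {X : Type*} [Group X]

theorem mem_zp {H : Type*} [Group H] {t x : H} (ht : t * t = 1) : x ∈ zpowers t ↔ x = 1 ∨ x = t := by
  constructor
  · rintro ⟨n, rfl⟩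
    have h2 : t ^ (2 : ℤ) = 1 := by rw [show (2 : ℤ) = 1 + 1 from rfl, zpow_add, zpow_one, ht]
    rcases Int.even_or_odd n with ⟨m, rfl⟩ | ⟨m, rfl⟩
    · exact Or.inl (by simp only; rw [← two_mul, zpow_mul, h2, one_zpow])
    · exact Or.inr (by simp only; rw [zpow_add, zpow_mul, h2, one_zpow, one_mul, zpow_one])
  · rintro (rfl | rfl)
    exacts [one_mem _, mem_zpowers _]

theorem zp_normal {H : Type*} [Group H] (t : H) :
    ((zpowers t).subgroupOf (centralizer ({t} : Set H))).Normal :=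
  ⟨fun n hn g => by
    have h : (n : H) * g = g * n := by
      obtain ⟨k, hk⟩ := mem_subgroupOf.1 hn
      rw [← hk]
      exact (Commute.zpow_left (mem_centralizer_singleton_iff.1 g.2).symm k).eq
    have e : g * n * g⁻¹ = n := Subtype.ext (by simp [← h])
    rwa [e]⟩

theorem order_two {H : Type*} [Group H] {t : H} (h : t * t = 1) (h1 : t ≠ 1) : orderOf t = 2 :=
  orderOf_eq_prime (by rw [pow_two, h]) h1

theorem conclusion_good [Finite X] {G₀ : Subgroup X} {z a b : X} {Q Ka Kb Kab : Subgroup X}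
    (O : OData G₀ z a b Q Ka Kb Kab) (hqa : Cfsg.IsQuasisimple Ka) (hqL : Cfsg.IsQuasisimple (CL G₀ a b))
    (F : Type) [Field F] [Fintype F] (hF : Fintype.card F = 4) (f : CL G₀ a b →* Cfsg.PSU 6 F 2)
    (hf : Function.Surjective f)
    (hker : ∀ l, f l = 1 ↔ (l : X) = 1 ∨ (l : X) = a ∨ (l : X) = b ∨ (l : X) = a * b) :
    ∃ d : X, Good G₀ z a b Ka Kb Kab d ∧ (∃ t : ↥(G₀ ⊓ Subgroup.centralizer ({d} : Set X)), (t : X) = a ∧
      Cfsg.IsThreeTranspositionClass (conjugatesOf t) ∧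
      Cfsg.IsOfTypeM23 ↥(G₀ ⊓ Subgroup.centralizer ({d} : Set X)) (conjugatesOf t) ∧
      Cfsg.IsPrimitiveUnderConj (conjugatesOf t)) ∧ orderOf d = 2 ∧ d ∉ G₀ ∧ Commute d z ∧ ∃ t : ↥(G₀ ⊓ Subgroup.centralizer ({d} : Set X)), orderOf t = 2 ∧ Cfsg.IsQuasisimple ↥(Subgroup.centralizer ({t} : Set ↥(G₀ ⊓ Subgroup.centralizer ({d} : Set X)))) ∧ (∃ (_ : ((Subgroup.zpowers t).subgroupOf (Subgroup.centralizer ({t} : Set ↥(G₀ ⊓ Subgroup.centralizer ({d} : Set X))))).Normal), (∃ E : Set (↥(Subgroup.centralizer ({t} : Set ↥(G₀ ⊓ Subgroup.centralizer ({d} : Set X)))) ⧸ (Subgroup.zpowers t).subgroupOf (Subgroup.centralizer ({t} : Set ↥(G₀ ⊓ Subgroup.centralizer ({d} : Set X))))), Cfsg.IsThreeTranspositionClass E ∧ Cfsg.IsOfTypeM22 _ E) ∧ ∃ d' : ↥(Subgroup.centralizer ({t} : Set ↥(G₀ ⊓ Subgroup.centralizer ({d} : Set X)))) ⧸ (Subgroup.zpowers t).subgroupOf (Subgroup.centralizer ({t} : Set ↥(G₀ ⊓ Subgroup.centralizer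 ({d} : Set X)))), orderOf d' = 2 ∧ Cfsg.IsQuasisimple ↥(Subgroup.centralizer ({d'} : Set _)) ∧ (∃ (K : Type) (_ : Field K) (_ : Fintype K), Fintype.card K = 4 ∧ ∃ _ : ((Subgroup.zpowers d').subgroupOf (Subgroup.centralizer ({d'} : Set _))).Normal, Nonempty (↥(Subgroup.centralizer ({d'} : Set _)) ⧸ (Subgroup.zpowers d').subgroupOf (Subgroup.centralizer ({d'} : Set _)) ≃* Cfsg.PSU 6 K 2)) ∧ ∃ g, g * d' * g⁻¹ ∈ Subgroup.centralizer ({d'} : Set _) ∧ g * d' * g⁻¹ ≠ d') ∧ (∃ g : ↥(G₀ ⊓ Subgroup.centralizer ({d} : Set X)), g * t * g⁻¹ ∈ Subgroup.centralizer ({t} : Set ↥(G₀ ⊓ Subgroup.centralizer ({d} : Set X))) ∧ g * t * g⁻¹ ≠ t) ∧ Cfsg.IsThreeTranspositionClass (conjugatesOf t) ∧ Cfsg.IsOfTypeM23 ↥(G₀ ⊓ Subgroup.centralizer ({d} : Set X)) (conjugatesOf t) := by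
  obtain ⟨d, hd⟩ := O.exists_good
  obtain ⟨hp, hp', -, hdd, hdz⟩ := id hd
  have hd1 : d ≠ 1 := fun h => hp.1 (h ▸ one_mem G₀)
  suffices hh : _ ∧ _ from ⟨d, hd, hh.1, order_two hdd hd1, hp.1, hdz, hh.2⟩
  let t : ↥(G₀ ⊓ centralizer ({d} : Set X)) :=
    ⟨a, O.a_mem, mem_centralizer_singleton_iff.2 (hp.2.1).symm⟩
  have ht : t * t = 1 := Subtype.ext O.a_sq
  have ht2 : orderOf t = 2 := order_two ht fun h => O.a_ne (congrArg Subtype.val h)
  have hin : ∀ {k : X}, k ∈ Ka → k ∈ G₀ ⊓ centralizer ({d} : Set X) := fun hk =>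
    ⟨((O.cent_a hd).1 hk).1.1, mem_centralizer_singleton_iff.2 ((O.cent_a hd).1 hk).2⟩
  let ι : Ka →* centralizer ({t} : Set ↥(G₀ ⊓ centralizer ({d} : Set X))) :=
    MonoidHom.mk' (fun k => ⟨⟨k, hin k.2⟩, mem_centralizer_singleton_iff.2
      (Subtype.ext ((O.cent_a hd).1 k.2).1.2)⟩) fun _ _ => rfl
  have hι : Function.Bijective ι := by
    refine ⟨fun k m e => Subtype.ext (congrArg Subtype.val (congrArg Subtype.val e) :), fun y => ?_⟩
    obtain ⟨⟨k, hk0, hkd⟩, hkt⟩ := y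
    refine ⟨⟨k, (O.cent_a hd).2 ⟨⟨hk0, ?_⟩, mem_centralizer_singleton_iff.1 hkd⟩⟩, rfl⟩
    exact congrArg Subtype.val (mem_centralizer_singleton_iff.1 hkt)
  let εK := MulEquiv.ofBijective ι hι
  have hq : Cfsg.IsQuasisimple (centralizer ({t} : Set ↥(G₀ ⊓ centralizer ({d} : Set X)))) :=
    CfsgLib.Comp.isQuasisimple_congr εK hqa
  haveI hn := zp_normal t
  let π := QuotientGroup.mk' ((zpowers t).subgroupOf (centralizer ({t} : Set ↥(G₀ ⊓ centralizer ({d} : Set X)))))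
  have hπ : ∀ k m : Ka, π (ι k) = π (ι m) ↔ (m : X) = k ∨ (m : X) = k * a := fun k m => by
    rw [QuotientGroup.mk'_eq_mk']
    constructor
    · rintro ⟨u, hu, e⟩
      have e' : (k : X) * ((u : ↥(G₀ ⊓ centralizer ({d} : Set X))) : X) = m :=
        congrArg Subtype.val (congrArg Subtype.val e)
      rcases (mem_zp ht).1 (mem_subgroupOf.1 hu) with h | h <;> rw [h] at e'
      · exact Or.inl (by simpa using e'.symm)
      · exact Or.inr e'.symm
    · rintro (h | h)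
      · exact ⟨1, one_mem _, by rw [mul_one]; exact congrArg ι (Subtype.ext h.symm)⟩
      · refine ⟨ι ⟨a, O.da.mem⟩, mem_subgroupOf.2 (mem_zpowers _), ?_⟩
        rw [← map_mul]
        exact congrArg ι (Subtype.ext h.symm)
  have hLa := O.L_le_a
  let bK : Ka := ⟨b, hLa O.b_L⟩
  let b' := π (ι bK)
  have hb2 : b' * b' = 1 := by
    show π (ι bK) * π (ι bK) = 1
    rw [← map_mul, ← map_mul, show bK * bK = 1 from Subtype.ext O.b_sq, map_one, map_one]
  have hb1 : b' ≠ 1 := fun h => by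
    rcases (hπ bK 1).1 (by rw [map_one, map_one]; exact h) with e | e
    · exact O.b_ne e.symm
    · exact O.ab_ne (by
        have := congrArg (· * a) e
        simpa [mul_assoc, O.a_sq, bK] using this)
  let j : CL G₀ a b →* Ka := Subgroup.inclusion hLa
  have hjc : ∀ l, π (ι (j l)) ∈ centralizer ({b'} : Set _) := fun l => by
    rw [mem_centralizer_singleton_iff]
    show π (ι (j l)) * π (ι bK) = π (ι bK) * π (ι (j l))
    rw [← map_mul, ← map_mul, ← map_mul, ← map_mul]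
    exact congrArg (fun x => π (ι x)) (Subtype.ext (mem_Cg.1 l.2.2).2)
  let Φ : CL G₀ a b →* centralizer ({b'} : Set _) := ((π.comp ι).comp j).codRestrict _ hjc
  have hΦ : Function.Surjective Φ := by
    rintro ⟨y, hy⟩
    obtain ⟨y₀, rfl⟩ := QuotientGroup.mk'_surjective _ y
    obtain ⟨k, rfl⟩ := hι.2 y₀
    have h := mem_centralizer_singleton_iff.1 hy
    change π (ι k) * π (ι bK) = π (ι bK) * π (ι k) at h
    rw [← map_mul, ← map_mul, ← map_mul, ← map_mul] at h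
    have hl : (k : X) * b = b * k := by
      rcases (hπ _ _).1 h with e | e
      · exact e.symm
      · refine absurd ?_ (O.no_move hd k.2)
        simp only [Subgroup.coe_mul, bK] at e
        have ka : (k : X) * a = a * k := ((O.cent_a hd).1 k.2).1.2
        have h5 : (b : X) * a * k = k * b * a * a := by
          rw [mul_assoc b, ← ka, ← mul_assoc b, e]
        rw [mul_assoc (k * b : X), O.a_sq, mul_one, ← O.comm] at h5
        exact mul_inv_eq_iff_eq_mul.2 h5.symm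
    exact ⟨⟨k, O.mem_L (hin k.2).1 ((O.cent_a hd).1 k.2).1.2 hl⟩, Subtype.ext rfl⟩
  haveI : Nontrivial (centralizer ({b'} : Set _)) :=
    ⟨⟨⟨b', mem_centralizer_singleton_iff.2 rfl⟩, 1, fun h => hb1 (congrArg Subtype.val h)⟩⟩
  have hq' : Cfsg.IsQuasisimple (centralizer ({b'} : Set _)) :=
    CfsgLib.Comp.isQuasisimple_of_surjective hqL hΦ
  haveI hn' := zp_normal b'
  let Φ' := (QuotientGroup.mk' ((zpowers b').subgroupOf (centralizer ({b'} : Set _)))).comp Φ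
  have hΦ' : Function.Surjective Φ' := (QuotientGroup.mk'_surjective _).comp hΦ
  have hkk : Φ'.ker = f.ker := by
    ext l
    rw [MonoidHom.mem_ker, MonoidHom.mem_ker, hker]
    show QuotientGroup.mk (Φ l) = 1 ↔ _
    rw [QuotientGroup.eq_one_iff, mem_subgroupOf, mem_zp hb2]
    show π (ι (j l)) = 1 ∨ π (ι (j l)) = π (ι bK) ↔ _
    rw [show (1 : _ ⧸ _) = π (ι 1) by rw [map_one, map_one], eq_comm, hπ, eq_comm (a := π (ι (j l))), hπ]
    simp only [j, bK, Subgroup.coe_inclusion, Subgroup.coe_one, one_mul, ← O.comm, or_assoc]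
  have e6 : Nonempty (_ ⧸ (zpowers b').subgroupOf (centralizer ({b'} : Set _)) ≃* Cfsg.PSU 6 F 2) :=
    ⟨(QuotientGroup.quotientKerEquivOfSurjective Φ' hΦ').symm.trans
      ((QuotientGroup.quotientMulEquivOfEq hkk).trans (QuotientGroup.quotientKerEquivOfSurjective f hf))⟩
  have hnwc' : ∃ g, g * b' * g⁻¹ ∈ centralizer ({b'} : Set _) ∧ g * b' * g⁻¹ ≠ b' := by
    obtain ⟨g, hg, hv⟩ := O.exists_move hd
    let gK : Ka := ⟨g, hg⟩
    let vK : Ka := gK * bK * gK⁻¹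
    have hv' : π (ι gK) * b' * (π (ι gK))⁻¹ = π (ι vK) := by simp [b', vK]
    refine ⟨π (ι gK), ?_, ?_⟩ <;> rw [hv']
    · rw [mem_centralizer_singleton_iff]
      show π (ι vK) * π (ι bK) = π (ι bK) * π (ι vK)
      rw [← map_mul, ← map_mul, ← map_mul, ← map_mul]
      refine congrArg (fun x => π (ι x)) (Subtype.ext ?_)
      show g * b * g⁻¹ * b = b * (g * b * g⁻¹)
      have h1 : Commute (b * z) b := Commute.mul_left rfl O.zb
      rcases hv with e | e <;> rw [e]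
      exacts [h1, Commute.mul_left O.comm h1]
    · intro h
      have hz := O.z_ne
      rcases (hπ _ _).1 h with e | e <;> simp only [vK, gK, bK, Subgroup.coe_mul, Subgroup.coe_inv] at e <;>
        rcases hv with q | q <;> rw [q] at e
      · exact hz.1 (mul_eq_left.1 e.symm)
      · refine hz.2.1 (mul_left_cancel (a := a * b) ?_)
        rw [mul_assoc a b z, ← e, O.comm, mul_assoc, O.a_sq, mul_one]
      · refine hz.2.1 (mul_left_cancel (a := b) (mul_right_cancel (b := a) ?_))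
        rw [← e, mul_assoc b, O.a_sq, mul_one]
      · refine hz.1 (mul_left_cancel (a := b) ?_)
        rw [show a * (b * z) = b * z * a by rw [← mul_assoc, O.comm, mul_assoc b, ← O.za, mul_assoc],
          mul_assoc _ a a, O.a_sq, mul_one] at e
        rw [← e, mul_one]
  have hnwc : ∃ g : ↥(G₀ ⊓ centralizer ({d} : Set X)),
      g * t * g⁻¹ ∈ centralizer ({t} : Set ↥(G₀ ⊓ centralizer ({d} : Set X))) ∧ g * t * g⁻¹ ≠ t := by
    obtain ⟨g, hg, hgd, hgb⟩ := O.exists_conj hd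
    refine ⟨⟨g, hg, mem_centralizer_singleton_iff.2 hgd⟩, mem_centralizer_singleton_iff.2 (Subtype.ext ?_),
      fun h => O.ab_ne ?_⟩
    · show g * a * g⁻¹ * a = a * (g * a * g⁻¹)
      rw [hgb]; exact O.comm.symm
    · rw [← hgb]
      exact (congrArg Subtype.val h).symm
  have hE : ∃ E : Set (↥(centralizer ({t} : Set ↥(G₀ ⊓ centralizer ({d} : Set X)))) ⧸
      (zpowers t).subgroupOf (centralizer ({t} : Set ↥(G₀ ⊓ centralizer ({d} : Set X))))),
      Cfsg.IsThreeTranspositionClass E ∧ Cfsg.IsOfTypeM22 _ E :=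
    ⟨conjugatesOf b', Cfsg.Agent.S5377.result b' (order_two hb2 hb1) hq' F hF e6.some hnwc'⟩
  have hinv : ∃ d' : ↥(centralizer ({t} : Set ↥(G₀ ⊓ centralizer ({d} : Set X)))) ⧸
      (zpowers t).subgroupOf (centralizer ({t} : Set ↥(G₀ ⊓ centralizer ({d} : Set X)))),
      orderOf d' = 2 ∧ Cfsg.IsQuasisimple ↥(centralizer ({d'} : Set _)) ∧
      (∃ (K : Type) (_ : Field K) (_ : Fintype K), Fintype.card K = 4 ∧
        ∃ _ : ((zpowers d').subgroupOf (centralizer ({d'} : Set _))).Normal,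
        Nonempty (↥(centralizer ({d'} : Set _)) ⧸ (zpowers d').subgroupOf (centralizer ({d'} : Set _)) ≃*
          Cfsg.PSU 6 K 2)) ∧ ∃ g, g * d' * g⁻¹ ∈ centralizer ({d'} : Set _) ∧ g * d' * g⁻¹ ≠ d' :=
    ⟨b', order_two hb2 hb1, hq', ⟨F, inferInstance, inferInstance, hF, hn', e6⟩, hnwc'⟩
  obtain ⟨h1, h2, h3⟩ :=
    CfsgLib.InvChar.Fi23Inv.class_m23 (CfsgLib.InvChar.Fi23Inv.cen_of_hyp ht2 hq hE hnwc)
  exact ⟨⟨t, rfl, h1, h2, h3⟩, t, ht2, hq, ⟨hn, hE, hinv⟩, hnwc, h1, h2⟩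

theorem conclusion [Finite X] {G₀ : Subgroup X} {z a b : X} {Q Ka Kb Kab : Subgroup X}
    (O : OData G₀ z a b Q Ka Kb Kab) (hqa : Cfsg.IsQuasisimple Ka) (hqL : Cfsg.IsQuasisimple (CL G₀ a b))
    (F : Type) [Field F] [Fintype F] (hF : Fintype.card F = 4) (f : CL G₀ a b →* Cfsg.PSU 6 F 2)
    (hf : Function.Surjective f)
    (hker : ∀ l, f l = 1 ↔ (l : X) = 1 ∨ (l : X) = a ∨ (l : X) = b ∨ (l : X) = a * b) :
    ∃ d : X, orderOf d = 2 ∧ d ∉ G₀ ∧ Commute d z ∧ ∃ t : ↥(G₀ ⊓ Subgroup.centralizer ({d} : Set X)), orderOf t = 2 ∧ Cfsg.IsQuasisimple ↥(Subgroup.centralizer ({t} : Set ↥(G₀ ⊓ Subgroup.centralizer ({d} : Set X)))) ∧ (∃ (_ : ((Subgroup.zpowers t).subgroupOf (Subgroup.centralizer ({t} : Set ↥(G₀ ⊓ Subgroup.centralizer ({d} : Set X))))).Normal), (∃ E : Set (↥(Subgroup.centralizer ({t} : Set ↥(G₀ ⊓ Subgroup.centralizer ({d} : Set X)))) ⧸ (Subgroup.zpowers t).subgroupOf (Subgroup.centralizer ({t} : Set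 ↥(G₀ ⊓ Subgroup.centralizer ({d} : Set X))))), Cfsg.IsThreeTranspositionClass E ∧ Cfsg.IsOfTypeM22 _ E) ∧ ∃ d' : ↥(Subgroup.centralizer ({t} : Set ↥(G₀ ⊓ Subgroup.centralizer ({d} : Set X)))) ⧸ (Subgroup.zpowers t).subgroupOf (Subgroup.centralizer ({t} : Set ↥(G₀ ⊓ Subgroup.centralizer ({d} : Set X)))), orderOf d' = 2 ∧ Cfsg.IsQuasisimple ↥(Subgroup.centralizer ({d'} : Set _)) ∧ (∃ (K : Type) (_ : Field K) (_ : Fintype K), Fintype.card K = 4 ∧ ∃ _ : ((Subgroup.zpowers d').subgroupOf (Subgroup.centralizer ({d'} : Set _))).Normal, Nonempty (↥(Subgroup.centralizer ({d'} : Set _)) ⧸ (Subgroup.zpowers d').subgroupOf (Subgroup.centralizer ({d'} : Set _)) ≃* Cfsg.PSU 6 K 2)) ∧ ∃ g, g * d' * g⁻¹ ∈ Subgroup.centralizer ({d'} : Set _) ∧ g * d' * g⁻¹ ≠ d') ∧ (∃ g : ↥(G₀ ⊓ Subgroup.centralizer ({d} : Set X)), g * t * g⁻¹ ∈ Subgroup.centralizer ({t} : Set ↥(G₀ ⊓ Subgroup.centralizer ({d} : Set X))) ∧ g * t * g⁻¹ ≠ t)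 ∧ Cfsg.IsThreeTranspositionClass (conjugatesOf t) ∧ Cfsg.IsOfTypeM23 ↥(G₀ ⊓ Subgroup.centralizer ({d} : Set X)) (conjugatesOf t) := by
  obtain ⟨d, -, -, h⟩ := conclusion_good O hqa hqL F hF f hf hker
  exact ⟨d, h⟩

end CfsgLib.ClassK.FiOuter
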