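import Cfsg.Agent.Lib.ClassK.FiOuter.Outer
import Cfsg.Agent.Lib.Trans3.FiLarge.U6.OutTransport
import Cfsg.Agent.Lib.Trans3.FiLarge.U6.CentFacts
import Cfsg.Agent.Lib.Trans3.FiLarge.U6.Assembly

/-!
The inputs of the outer involution from the U6(2) rung.
-/

set_option autoImplicit false

namespace CfsgLib.ClassK.FiOuter

open Subgroup CfsgLib.Trans3.FiLarge.U6 CfsgLib.Trans3.FischerType.PairCode

theorem exists_inputs {X : Type*} [Group X] [Finite X] {G₀ : Subgroup X} {z : G₀}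
    {Q : Subgroup (Subgroup.centralizer ({z} : Set G₀))} [Q.Normal] (hF : Cfsg.IsOfLargeFischerTypeAt z Q) :
    ∃ C : Ctx z Q, C.AFacts ∧ Cfsg.IsQuasisimple C.CE ∧
      (∃ (F : Type) (_ : Field F) (_ : Fintype F), Fintype.card F = 4 ∧ Nonempty (C.Y ≃* Cfsg.PSU 6 F 2)) ∧
      Small z Q := by
  obtain ⟨C⟩ := exists_ctx hF (maxData hF)
  have hA := C.afacts
  have hC := C.centFacts hA
  have hFix := C.fixFacts hA
  refine ⟨C, hA, C.quasisimple hA hC hFix, C.iso hA hC hFix, fun t htQ ht2 htz _ => ?_⟩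
  obtain ⟨⟨r, hrz⟩, hr, hre⟩ := htQ
  subst hre
  haveI := zp_normal r
  exact ⟨_, small_centralizer hF hrz hr ht2 htz⟩

end CfsgLib.ClassK.FiOuter
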